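/-
The monomial group is maximal in the special linear group of degree four over at least seven scalars.

A conjugate of a generic diagonal pair with a fixed row is diagonal, so rows have at most one zero; a row free of
zeros makes all products of opposite entries a quarter, and then a diagonal element of trace zero gives a conjugate
with zero diagonal, which is impossible.
-/
import Cfsg.Agent.Lib.MaxCl.LinearMonomialSmall

set_option autoImplicit false

namespace Cfsg.Agent.MaxCl.Monom

open Matrix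
open scoped MatrixGroups

variable {F : Type*} [Field F] [Fintype F]

/-- a scalar of order above four -/
theorem exists_scalar_generic (h7 : 7 ≤ Fintype.card F) : ∃ l : F, l ≠ 0 ∧ l ^ 3 ≠ 1 ∧ l ^ 4 ≠ 1 := by
  classical
  obtain ⟨g, hg⟩ := IsCyclic.exists_generator (α := Fˣ)
  have ho : orderOf g = Fintype.card F - 1 := by
    rw [orderOf_eq_card_of_forall_mem_zpowers hg, Nat.card_eq_fintype_card, Fintype.card_units]
  refine ⟨(g : F), g.ne_zero, fun h => ?_, fun h => ?_⟩
  · have := orderOf_dvd_of_pow_eq_one (show g ^ 3 = 1 from Units.ext (by push_cast; exact h))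
    have := Nat.le_of_dvd (by norm_num) this
    omega
  · have := orderOf_dvd_of_pow_eq_one (show g ^ 4 = 1 from Units.ext (by push_cast; exact h))
    have := Nat.le_of_dvd (by norm_num) this
    omega

/-- four scalars with product one, sum zero and not all fourth powers equal -/
theorem exists_trace_zero_four (h2 : (2 : F) ≠ 0) (h7 : 7 ≤ Fintype.card F) :
    ∃ t : Fin 4 → F, t 0 * t 1 * t 2 * t 3 = 1 ∧ t 0 + t 1 + t 2 + t 3 = 0 ∧ ∃ a b, t a ^ 4 ≠ t b ^ 4 := by
  classical
  obtain ⟨g, hg⟩ := IsCyclic.exists_generator (α := Fˣ)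
  have ho : orderOf g = Fintype.card F - 1 := by
    rw [orderOf_eq_card_of_forall_mem_zpowers hg, Nat.card_eq_fintype_card, Fintype.card_units]
  by_cases h8 : g ^ 8 = 1
  · have hdvd := orderOf_dvd_of_pow_eq_one h8
    rw [ho] at hdvd
    have hle := Nat.le_of_dvd (by norm_num) hdvd
    have h9 : Fintype.card F = 9 := by
      have : Fintype.card F = 7 ∨ Fintype.card F = 8 ∨ Fintype.card F = 9 := by omega
      rcases this with h | h | h
      · rw [h] at hdvd; norm_num at hdvd
      · rw [h] at hdvd; norm_num at hdvd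
      · exact h
    have h3 : (3 : F) = 0 := by
      have h : ((9 : ℕ) : F) = 0 := h9 ▸ Nat.cast_card_eq_zero F
      push_cast at h
      exact mul_self_eq_zero.1 (show (3 : F) * 3 = 0 by linear_combination h)
    have hg4 : ((g : F)) ^ 4 = -1 := by
      have hne : (g : F) ^ 4 ≠ 1 := fun h => by
        have := Nat.le_of_dvd (by norm_num)
          (orderOf_dvd_of_pow_eq_one (show g ^ 4 = 1 from Units.ext (by push_cast; exact h)))
        omega
      have h := congrArg Units.val h8
      push_cast at h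
      exact (mul_self_eq_one_iff.1 (show (g : F) ^ 4 * (g : F) ^ 4 = 1 by linear_combination h)).resolve_left hne
    obtain ⟨i, hi⟩ : ∃ i : F, i * i = -1 := ⟨(g : F) ^ 2, by linear_combination hg4⟩
    refine ⟨![i, 1, 1 + i, 1 + i], ?_, ?_, 1, 2, ?_⟩ <;> simp
    · linear_combination (2 + i) * hi - h3
    · linear_combination (1 + i) * h3
    · intro h
      refine h2 ?_
      linear_combination h + (i * i + 4 * i + 5) * hi - h3
  · refine ⟨![(g : F), -(g : F), (g : F)⁻¹, -(g : F)⁻¹], ?_, ?_, 0, 2, fun h => h8 (Units.ext ?_)⟩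
    · simp
    · simp
    · have hne : (g : F) ≠ 0 := g.ne_zero
      simp at h
      field_simp at h
      push_cast
      linear_combination h

variable {ι : Type} [Fintype ι] [DecidableEq ι] {M : Subgroup (GL ι F)}

/-- Without elementary transvections a row has no two zeros, from degree four on. -/
theorem row_zero_unique_four (hM : Over M) (h7 : 7 ≤ Fintype.card F) (h4 : 4 ≤ Fintype.card ι)
    (hno : ∀ a b, a ≠ b → ¬ ElemIn M a b) {m : GL ι F} (hm : m ∈ M) (hnm : ¬ Mono m) {r a b : ι}
    (ha : (m : Matrix ι ι F) r a = 0) (hb : (m : Matrix ι ι F) r b = 0) : a = b := by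
  classical
  by_contra hab
  obtain ⟨l, hl0, hl3, hl4⟩ := exists_scalar_generic h7
  have hl1 : l ≠ 1 := fun e => hl4 (by rw [e, one_pow])
  have hli : l ≠ l⁻¹ := fun e => hl4 (by
    have : l * l = 1 := by nth_rw 2 [e]; exact mul_inv_cancel₀ hl0
    linear_combination (l * l + 1) * this)
  obtain ⟨e, he⟩ : ∃ e : ι → F, e = Function.update (Function.update (1 : ι → F) a l) b l⁻¹ := ⟨_, rfl⟩
  obtain ⟨t, ht, htx, -⟩ := exists_diag_mem hM e (by rw [he, prod_update_pair hab, mul_inv_cancel₀ hl0])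
  have hea : e a = l := by simp [he, hab]
  have heb : e b = l⁻¹ := by simp [he]
  have hek : ∀ k, k ≠ a → k ≠ b → e k = 1 := fun k ha hb => by simp [he, ha, hb]
  obtain ⟨x, hxdef⟩ : ∃ x, x = m * t * m⁻¹ := ⟨_, rfl⟩
  have hx : x ∈ M := hxdef ▸ M.mul_mem (M.mul_mem hm ht) (M.inv_mem hm)
  have hxy : ∀ y, act x (act m y) = act m (act t y) := fun y => by rw [hxdef, act_mul, act_mul, act_inv_act]
  have hfix : ∀ z, act x z r = z r := by
    intro z
    obtain ⟨y, rfl⟩ : ∃ y, act m y = z := ⟨act m⁻¹ z, act_act_inv m z⟩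
    obtain ⟨w, hw⟩ : ∃ w, w = act t y := ⟨_, rfl⟩
    rw [hxy, ← hw, act_apply, act_apply]
    simp only [Matrix.mulVec, dotProduct]
    refine Finset.sum_congr rfl fun k _ => ?_
    show (m : Matrix ι ι F) r k * w k = (m : Matrix ι ι F) r k * y k
    by_cases hka : k = a
    · rw [hka, ha, zero_mul, zero_mul]
    by_cases hkb : k = b
    · rw [hkb, hb, zero_mul, zero_mul]
    rw [hw, htx, hek k hka hkb, one_mul]
  have hmono : Mono x := by
    by_contra h
    obtain ⟨u, v, huv, hel⟩ := elem_of_row hM (by omega) h4 hx h (r := r) (b := r) fun c hc => by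
      rw [hfix, Pi.single_eq_of_ne (Ne.symm hc)]
    exact hno u v huv hel
  obtain ⟨π, d, -, hd⟩ := hmono.exists_data
  obtain ⟨s, hs⟩ : ∃ s, s = 1 + l + l⁻¹ := ⟨_, rfl⟩
  have hcubic : ∀ z k, act x (act x (act x z)) k - s * act x (act x z) k + s * act x z k - z k = 0 := by
    intro z k
    obtain ⟨y, rfl⟩ : ∃ y, act m y = z := ⟨act m⁻¹ z, act_act_inv m z⟩
    have h : act m (act t (act t (act t y)) - s • act t (act t y) + s • act t y - y) k = 0 := by
      rw [show act t (act t (act t y)) - s • act t (act t y) + s • act t y - y = 0 from funext fun j => by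
        simp only [Pi.sub_apply, Pi.add_apply, Pi.smul_apply, htx, smul_eq_mul, Pi.zero_apply]
        have hee : (e j - 1) * ((e j - l) * (e j - l⁻¹)) = 0 := by
          by_cases hja : j = a
          · rw [hja, hea]; ring
          by_cases hjb : j = b
          · rw [hjb, heb]; ring
          rw [hek j hja hjb]; ring
        rw [hs]
        linear_combination y j * hee + (e j * y j - y j) * (mul_inv_cancel₀ hl0) * (-1), map_zero]
      rfl
    rw [hxy, hxy, hxy]
    simpa only [map_sub, map_add, map_smul, Pi.sub_apply, Pi.add_apply, Pi.smul_apply, smul_eq_mul] using h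
  have hfixed : ∀ p, π p = p := by
    intro p
    by_contra hne
    have hq : π (π p) ≠ π p := fun h => hne (π.injective h)
    have e1 : ∀ k, act x (Pi.single p 1) k = if k = π p then d p else 0 := fun k => by rw [hd, single_apply']
    have e2 : ∀ k, act x (act x (Pi.single p 1)) k = if k = π (π p) then d p * d (π p) else 0 := fun k => by
      rw [hd, map_smul, hd, smul_smul, single_apply']
    have e3 : ∀ k, act x (act x (act x (Pi.single p 1))) k =
        if k = π (π (π p)) then d p * d (π p) * d (π (π p)) else 0 := fun k => by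
      rw [hd, map_smul, hd, map_smul, map_smul, hd, smul_smul, smul_smul, single_apply']
    have hq' := hcubic (Pi.single p 1) (π p)
    have hp' := hcubic (Pi.single p 1) p
    rw [e1, e2, e3, if_pos rfl, if_neg hq.symm, Pi.single_eq_of_ne hne] at hq'
    rw [e1, e2, e3, if_neg (Ne.symm hne), Pi.single_eq_same] at hp'
    have hd0 : d p ≠ 0 := fun h => by
      have h1 : act x (Pi.single p 1) = act x 0 := by rw [hd, h, zero_smul, map_zero]
      simpa using congrFun (act_injective x h1) p
    by_cases h2 : π (π p) = p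
    · rw [h2] at hq' hp'
      rw [if_pos rfl] at hq'
      rw [if_neg (Ne.symm hne), if_pos rfl] at hp'
      have hC : d p * d (π p) + s = 0 := (mul_eq_zero.1 (show (d p * d (π p) + s) * d p = 0 by
        linear_combination hq')).resolve_right hd0
      have h1 : (s - 1) * (s + 1) = 0 := by linear_combination hp' + s * hC
      rw [hs] at h1
      rcases mul_eq_zero.1 h1 with h | h
      · exact hl4 (by linear_combination (l * l - 1) * l * h - (l * l - 1) * mul_inv_cancel₀ hl0)
      · have h' : (l + 1) * (l + 1) = 0 := by linear_combination l * h - mul_inv_cancel₀ hl0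
        exact hl4 (by rw [eq_neg_of_add_eq_zero_left (mul_self_eq_zero.1 h')]; ring)
    · rw [if_neg (fun h => h2 (π.injective h).symm)] at hq'
      have hs0 : s = 0 := (mul_eq_zero.1 (show s * d p = 0 by linear_combination hq')).resolve_right hd0
      rw [hs] at hs0
      exact hl3 (by linear_combination (l - 1) * l * hs0 - (l - 1) * mul_inv_cancel₀ hl0)
  have hdr : d r = 1 := by
    have := hfix (Pi.single r 1)
    rwa [hd, hfixed, single_apply', if_pos rfl, Pi.single_eq_same] at this
  have hA : ∀ k c, e k = c → c ≠ 1 → (Finset.univ.filter fun j => ¬ d j = c).card ≤ 2 := by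
    intro k c hkc _
    refine col_zeros_le hM (by omega) h4 hno hm hnm k fun j hj => ?_
    have h1 : act x (act m (Pi.single k 1)) = c • act m (Pi.single k 1) := by
      rw [hxy, show act t (Pi.single k 1) = c • Pi.single k 1 from funext fun i => by
        rw [htx, single_apply', Pi.single_apply]
        by_cases hi : i = k <;> simp [hi, hkc], map_smul]
    have h2 := congrFun h1 (π j)
    rw [act_mono_coord hd, Pi.smul_apply, hfixed, act_single_apply, smul_eq_mul] at h2
    exact (mul_eq_mul_right_iff.1 h2).resolve_left (Finset.mem_filter.1 hj).2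
  have hl1' : l⁻¹ ≠ 1 := fun h => hl1 (inv_eq_one.1 h)
  have h1 := hA a l hea hl1
  have h2 := hA b l⁻¹ heb hl1'
  have h3 := Finset.card_le_card (show (Finset.univ : Finset ι) ⊆
      ((Finset.univ.filter fun j => ¬ d j = l) ∪ (Finset.univ.filter fun j => ¬ d j = l⁻¹)) from fun j _ => by
    by_cases hj : d j = l
    · simp [hj, hli]
    · simp [hj])
  have h4' : r ∈ (Finset.univ.filter fun j => ¬ d j = l) ∩ (Finset.univ.filter fun j => ¬ d j = l⁻¹) := by
    simp [hdr, hl1.symm, hl1'.symm]
  have h5' := Finset.card_union_add_card_inter (Finset.univ.filter fun j => ¬ d j = l)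
    (Finset.univ.filter fun j => ¬ d j = l⁻¹)
  have h6' := Finset.card_pos.2 ⟨r, h4'⟩
  rw [Finset.card_univ] at h3
  omega

section four

variable {M : Subgroup (GL (Fin 4) F)}

/-- A row free of zeros makes every product of opposite entries a quarter. -/
theorem prod_of_full_row (hM : Over M) (h7 : 7 ≤ Fintype.card F) (hno : ∀ a b, a ≠ b → ¬ ElemIn M a b)
    {m : GL (Fin 4) F} (hm : m ∈ M) {r : Fin 4}
    (h : ∀ j, (m : Matrix (Fin 4) (Fin 4) F) r j ≠ 0) (i j : Fin 4) :
    4 * ((m : Matrix (Fin 4) (Fin 4) F) i j * ((m⁻¹ : GL (Fin 4) F) : Matrix (Fin 4) (Fin 4) F) j i) = 1 := by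
  classical
  obtain ⟨β, hβ⟩ : ∃ β : Fin 4 → F, β = fun j => (m : Matrix (Fin 4) (Fin 4) F) r j := ⟨_, rfl⟩
  have hβ0 : ∀ j, β j ≠ 0 := fun j => by rw [hβ]; exact h j
  let K : Equiv.Perm (Fin 4) → GL (Fin 4) F → Prop := fun σ g =>
    ∀ j, act g (Pi.single j 1) = (β j / β (σ j)) • Pi.single (σ j) 1
  have hex : ∀ σ : Equiv.Perm (Fin 4), Equiv.Perm.sign σ = 1 → ∃ k ∈ M, K σ k := by
    intro σ hσ
    refine exists_mem_pm hM σ _ (fun j => div_ne_zero (hβ0 j) (hβ0 _)) ?_
    rw [hσ, Units.val_one, Int.cast_one, one_mul, Finset.prod_div_distrib, Equiv.prod_comp σ β,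
      div_self (Finset.prod_ne_zero_iff.2 fun j _ => hβ0 j)]
  have hKext : ∀ σ g g', K σ g → K σ g' → g = g' := fun σ g g' hg hg' => gl_ext fun y => by
    rw [eq_sum_single y, map_sum, map_sum]
    exact Finset.sum_congr rfl fun j _ => by rw [map_smul, map_smul, hg, hg']
  have hKmul : ∀ σ τ g g', K σ g → K τ g' → K (σ * τ) (g * g') := fun σ τ g g' hg hg' j => by
    rw [act_mul, hg', map_smul, hg, smul_smul, Equiv.Perm.mul_apply]
    congr 1
    have := hβ0 (τ j)
    have := hβ0 (σ (τ j))
    field_simp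
  have hfix : ∀ σ g, K σ g → ∀ y, act (m * g * m⁻¹) y r = y r := by
    intro σ g hg y
    obtain ⟨z, rfl⟩ : ∃ z, act m z = y := ⟨act m⁻¹ y, act_act_inv m y⟩
    conv_lhs => rw [eq_sum_single z]
    conv_rhs => rw [eq_sum_single z]
    simp only [map_sum, map_smul, Finset.sum_apply, Pi.smul_apply]
    refine Finset.sum_congr rfl fun j _ => ?_
    rw [act_mul, act_mul, act_inv_act, hg, map_smul, Pi.smul_apply, act_single_apply, act_single_apply,
      smul_eq_mul, smul_eq_mul, smul_eq_mul]
    have hj : (m : Matrix (Fin 4) (Fin 4) F) r j = β j := by rw [hβ]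
    have hσj : (m : Matrix (Fin 4) (Fin 4) F) r (σ j) = β (σ j) := by rw [hβ]
    rw [hj, hσj, div_mul_cancel₀ _ (hβ0 _)]
  have hmono : ∀ σ g, g ∈ M → K σ g → ∃ π : Equiv.Perm (Fin 4), ∃ d : Fin 4 → F, (∀ j, d j ≠ 0) ∧ π r = r ∧
      ∀ j, act (m * g * m⁻¹) (Pi.single j 1) = d j • Pi.single (π j) 1 := by
    intro σ g hgM hg
    have hx : Mono (m * g * m⁻¹) := by
      by_contra hn
      obtain ⟨u, v, huv, hel⟩ := elem_of_row hM (by omega) (by simp) (M.mul_mem (M.mul_mem hm hgM) (M.inv_mem hm))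
        hn (r := r) (b := r) fun c hc => by rw [hfix σ g hg, Pi.single_eq_of_ne (Ne.symm hc)]
      exact hno u v huv hel
    obtain ⟨π, d, hd0, hd⟩ := hx.exists_data
    refine ⟨π, d, hd0, ?_, hd⟩
    by_contra hne
    have h1 := hfix σ g hg (Pi.single r 1)
    rw [hd, single_apply', if_neg (Ne.symm hne), Pi.single_eq_same] at h1
    exact zero_ne_one h1
  -- the three double transpositions and a cycle permuting them
  obtain ⟨a, ha⟩ : ∃ a : Equiv.Perm (Fin 4), a = Equiv.swap 0 1 * Equiv.swap 2 3 := ⟨_, rfl⟩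
  obtain ⟨b, hb⟩ : ∃ b : Equiv.Perm (Fin 4), b = Equiv.swap 0 2 * Equiv.swap 1 3 := ⟨_, rfl⟩
  obtain ⟨u, hu⟩ : ∃ u : Equiv.Perm (Fin 4), u = Equiv.swap 1 2 * Equiv.swap 2 3 := ⟨_, rfl⟩
  obtain ⟨A, hA, hAK⟩ := hex a (by rw [ha]; decide)
  obtain ⟨B, hB, hBK⟩ := hex b (by rw [hb]; decide)
  obtain ⟨U, hU, hUK⟩ := hex u (by rw [hu]; decide)
  have hua : u * a = b * u := by rw [ha, hb, hu]; decide
  have hub : u * b = a * b * u := by rw [ha, hb, hu]; decide
  have hab : a * b = b * a := by rw [ha, hb]; decide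
  have haa : a * a = 1 := by rw [ha]; decide
  have hbb : b * b = 1 := by rw [hb]; decide
  obtain ⟨πA, dA, hA0, hAr, hAd⟩ := hmono a A hA hAK
  obtain ⟨πB, dB, hB0, hBr, hBd⟩ := hmono b B hB hBK
  obtain ⟨πU, dU, hU0, hUr, hUd⟩ := hmono u U hU hUK
  have hperm : ∀ {g g' : GL (Fin 4) F} {π π' : Equiv.Perm (Fin 4)} {d d' : Fin 4 → F}, (∀ j, d j ≠ 0) →
      (∀ j, act g (Pi.single j 1) = d j • Pi.single (π j) 1) →
      (∀ j, act g' (Pi.single j 1) = d' j • Pi.single (π' j) 1) → g = g' → π = π' := by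
    intro g g' π π' d d' hd0 hg hg' e
    refine Equiv.ext fun j => ?_
    by_contra hne
    have h1 := congrFun ((hg j).symm.trans (e ▸ hg' j)) (π j)
    rw [single_apply', single_apply', if_pos rfl, if_neg hne] at h1
    exact hd0 j h1
  have hcomp : ∀ {g g' : GL (Fin 4) F} {π π' : Equiv.Perm (Fin 4)} {d d' : Fin 4 → F},
      (∀ j, act g (Pi.single j 1) = d j • Pi.single (π j) 1) →
      (∀ j, act g' (Pi.single j 1) = d' j • Pi.single (π' j) 1) →
      ∀ j, act (g * g') (Pi.single j 1) = (d' j * d (π' j)) • Pi.single ((π * π') j) 1 := by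
    intro g g' π π' d d' hg hg' j
    rw [act_mul, hg', map_smul, hg, smul_smul, Equiv.Perm.mul_apply]
  have hconj : ∀ g g' : GL (Fin 4) F, m * g * m⁻¹ * (m * g' * m⁻¹) = m * (g * g') * m⁻¹ := fun g g' => by group
  have hsq : ∀ {σ : Equiv.Perm (Fin 4)} {g : GL (Fin 4) F} {π : Equiv.Perm (Fin 4)} {d : Fin 4 → F},
      σ * σ = 1 → K σ g → (∀ j, d j ≠ 0) →
      (∀ j, act (m * g * m⁻¹) (Pi.single j 1) = d j • Pi.single (π j) 1) → π * π = 1 := by
    intro σ g π d hσ hg hd0 hd
    have hgg : g * g = 1 := hKext 1 _ _ (hσ ▸ hKmul σ σ g g hg hg) fun j => by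
      rw [Equiv.Perm.one_apply, act_one, div_self (hβ0 j), one_smul]
    refine hperm (fun j => mul_ne_zero (hd0 j) (hd0 _)) (hcomp hd hd) (g' := 1) (d' := fun _ => 1)
      (fun j => by rw [act_one, one_smul]; rfl) ?_
    rw [hconj, hgg, mul_one, mul_inv_cancel]
  have qAA : πA * πA = 1 := hsq haa hAK hA0 hAd
  have qBB : πB * πB = 1 := hsq hbb hBK hB0 hBd
  have qAB : πA * πB = πB * πA := by
    refine hperm (fun j => mul_ne_zero (hB0 j) (hA0 _)) (hcomp hAd hBd) (hcomp hBd hAd) ?_
    rw [hconj, hconj, hKext (a * b) _ _ (hKmul a b A B hAK hBK) (hab ▸ hKmul b a B A hBK hAK)]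
  have qUA : πU * πA = πB * πU := by
    refine hperm (fun j => mul_ne_zero (hA0 j) (hU0 _)) (hcomp hUd hAd) (hcomp hBd hUd) ?_
    rw [hconj, hconj, hKext (u * a) _ _ (hKmul u a U A hUK hAK) (hua ▸ hKmul b u B U hBK hUK)]
  have qUB : πU * πB = πA * πB * πU := by
    refine hperm (fun j => mul_ne_zero (hB0 j) (hU0 _)) (hcomp hUd hBd) (hcomp (hcomp hAd hBd) hUd) ?_
    rw [hconj, hconj, hconj, hKext (u * b) _ _ (hKmul u b U B hUK hBK)
      (hub ▸ hKmul (a * b) u (A * B) U (hKmul a b A B hAK hBK) hUK)]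
  have hone : πA = 1 := by
    by_contra hne
    have hBne : πB ≠ 1 := fun e => hne (by simpa [e] using qUA)
    have key : ∀ (r : Fin 4) (p q : Equiv.Perm (Fin 4)), p r = r → q r = r → p * p = 1 → q * q = 1 →
        p * q = q * p → p ≠ 1 → q ≠ 1 → p = q := by decide
    have e := key r πA πB hAr hBr qAA qBB qAB hne hBne
    rw [← e, qAA, one_mul] at qUB
    exact hne (by simpa using qUB)
  have honeB : πB = 1 := by simpa [hone] using qUA.symm
  -- opposite products are constant along the three permutations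
  have hinv : ∀ {σ : Equiv.Perm (Fin 4)} {g : GL (Fin 4) F} {d : Fin 4 → F}, K σ g → (∀ j, d j ≠ 0) →
      (∀ j, act (m * g * m⁻¹) (Pi.single j 1) = d j • Pi.single j 1) → ∀ i j,
      (m : Matrix (Fin 4) (Fin 4) F) i (σ j) * ((m⁻¹ : GL (Fin 4) F) : Matrix (Fin 4) (Fin 4) F) (σ j) i =
        (m : Matrix (Fin 4) (Fin 4) F) i j * ((m⁻¹ : GL (Fin 4) F) : Matrix (Fin 4) (Fin 4) F) j i := by
    intro σ g d hg hd0 hd i j
    have hcoord : ∀ z, act (m * g * m⁻¹) z i = d i * z i := fun z => by
      simpa using act_mono_coord (π := 1) hd z i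
    have e1 : (β j / β (σ j)) * (m : Matrix (Fin 4) (Fin 4) F) i (σ j) =
        d i * (m : Matrix (Fin 4) (Fin 4) F) i j := by
      have h1 := hcoord (act m (Pi.single j 1))
      rw [act_mul, act_mul, act_inv_act, hg, map_smul, Pi.smul_apply, act_single_apply, act_single_apply,
        smul_eq_mul] at h1
      exact h1
    have e2 : (β j / β (σ j)) * ((m⁻¹ : GL (Fin 4) F) : Matrix (Fin 4) (Fin 4) F) j i =
        d i * ((m⁻¹ : GL (Fin 4) F) : Matrix (Fin 4) (Fin 4) F) (σ j) i := by
      have h1 := congrFun (congrArg (act m⁻¹) (hd i)) (σ j)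
      rw [act_mul, act_mul, act_inv_act, act_mono_coord hg, map_smul, Pi.smul_apply, act_single_apply,
        act_single_apply, smul_eq_mul] at h1
      exact h1
    refine mul_left_cancel₀ (mul_ne_zero (div_ne_zero (hβ0 j) (hβ0 (σ j))) (hd0 i)) ?_
    linear_combination (d i * ((m⁻¹ : GL (Fin 4) F) : Matrix (Fin 4) (Fin 4) F) (σ j) i) * e1 -
      (d i * (m : Matrix (Fin 4) (Fin 4) F) i j) * e2
  subst hone honeB
  have iA := hinv hAK hA0 hAd i
  have iB := hinv hBK hB0 hBd i
  have h1 : ((m : Matrix (Fin 4) (Fin 4) F) * ((m⁻¹ : GL (Fin 4) F) : Matrix (Fin 4) (Fin 4) F)) i i = 1 := by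
    rw [← Units.val_mul, mul_inv_cancel, Units.val_one, Matrix.one_apply_eq]
  rw [Matrix.mul_apply, Fin.sum_univ_four] at h1
  have a0 := iA 0
  have a2 := iA 2
  have b0 := iB 0
  rw [show a 0 = 1 by rw [ha]; decide] at a0
  rw [show a 2 = 3 by rw [ha]; decide] at a2
  rw [show b 0 = 2 by rw [hb]; decide] at b0
  obtain rfl | rfl | rfl | rfl : j = 0 ∨ j = 1 ∨ j = 2 ∨ j = 3 := by omega
  · linear_combination h1 - a0 - a2 - 2 * b0
  · linear_combination h1 + 3 * a0 - a2 - 2 * b0
  · linear_combination h1 - a0 - a2 + 2 * b0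
  · linear_combination h1 - a0 + 3 * a2 + 2 * b0

/-- A further element with a zero has zeros in every row, of itself and of its inverse. -/
theorem rows_zero_of_zero (hM : Over M) (h7 : 7 ≤ Fintype.card F) (hno : ∀ a b, a ≠ b → ¬ ElemIn M a b)
    {m : GL (Fin 4) F} (hm : m ∈ M) {i₀ j₀ : Fin 4} (h0 : (m : Matrix (Fin 4) (Fin 4) F) i₀ j₀ = 0) (r : Fin 4) :
    (∃ a, (m : Matrix (Fin 4) (Fin 4) F) r a = 0) ∧
      ∃ a, ((m⁻¹ : GL (Fin 4) F) : Matrix (Fin 4) (Fin 4) F) r a = 0 := by
  constructor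
  · by_contra h
    push Not at h
    have := prod_of_full_row hM h7 hno hm h i₀ j₀
    rw [h0, zero_mul, mul_zero] at this
    exact zero_ne_one this
  · by_contra h
    push Not at h
    have := prod_of_full_row hM h7 hno (M.inv_mem hm) h j₀ i₀
    rw [inv_inv, h0, mul_zero, mul_zero] at this
    exact zero_ne_one this

/-- Without elementary transvections no row is free of zeros. -/
theorem exists_row_zero_four (hM : Over M) (h7 : 7 ≤ Fintype.card F) (hno : ∀ a b, a ≠ b → ¬ ElemIn M a b)
    {m : GL (Fin 4) F} (hm : m ∈ M) (r : Fin 4) :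
    ∃ a, (m : Matrix (Fin 4) (Fin 4) F) r a = 0 := by
  classical
  by_contra h
  push Not at h
  have hP := prod_of_full_row hM h7 hno hm h
  have h2 : (2 : F) ≠ 0 := fun e => by
    have h1 := hP 0 0
    rw [show (4 : F) = 2 * 2 by norm_num, e, zero_mul, zero_mul] at h1
    exact zero_ne_one h1
  obtain ⟨t, htp, hts, p₁, p₂, hne⟩ := exists_trace_zero_four h2 h7
  obtain ⟨T, hT, hTx, -⟩ := exists_diag_mem hM t (by rw [Fin.prod_univ_four]; exact htp)
  obtain ⟨y, hy⟩ : ∃ y, y = m * T * m⁻¹ := ⟨_, rfl⟩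
  have hyM : y ∈ M := hy ▸ M.mul_mem (M.mul_mem hm hT) (M.inv_mem hm)
  have hyy : ∀ z, act y (act m z) = act m (act T z) := fun z => by rw [hy, act_mul, act_mul, act_inv_act]
  have hdiag : ∀ i, (y : Matrix (Fin 4) (Fin 4) F) i i = 0 := by
    intro i
    rw [← act_single_apply, ← act_act_inv m (Pi.single i 1), hyy]
    obtain ⟨w, hw⟩ : ∃ w, w = act T (act m⁻¹ (Pi.single i 1)) := ⟨_, rfl⟩
    rw [← hw, act_apply]
    simp only [Matrix.mulVec, dotProduct, Fin.sum_univ_four]
    simp only [hw, hTx, act_single_apply]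
    refine mul_left_cancel₀ (mul_ne_zero h2 h2) ?_
    linear_combination t 0 * hP i 0 + t 1 * hP i 1 + t 2 * hP i 2 + t 3 * hP i 3 + hts
  by_cases hmono : Mono y
  · obtain ⟨π, d, hd0, hd⟩ := hmono.exists_data
    have hder : ∀ i, π i ≠ i := fun i e => hd0 i (by
      have h1 := hdiag i
      rwa [← act_single_apply, hd, single_apply', if_pos e.symm] at h1)
    have h4 : ∀ p : Equiv.Perm (Fin 4), (∀ i, p i ≠ i) → ∀ i, p (p (p (p i))) = i := by decide
    have hD : ∀ z i, act y (act y (act y (act y z))) i =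
        d (π (π (π i))) * (d (π (π i)) * (d (π i) * (d i * z i))) := by
      intro z i
      conv_lhs => rw [← h4 π hder i]
      rw [act_mono_coord hd, act_mono_coord hd, act_mono_coord hd, act_mono_coord hd]
    have key : ∀ k, t k ^ 4 = d (π (π (π r))) * (d (π (π r)) * (d (π r) * d r)) := by
      intro k
      have h1 := hD (act m (Pi.single k 1)) r
      rw [hyy, hyy, hyy, hyy, show act T (act T (act T (act T (Pi.single k 1)))) = t k ^ 4 • Pi.single k 1 from
        funext fun i => by
          simp only [hTx, single_apply', Pi.single_apply]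
          by_cases hi : i = k
          · rw [if_pos hi, if_pos hi, hi]; ring
          · rw [if_neg hi, if_neg hi]; ring, map_smul, Pi.smul_apply, act_single_apply, smul_eq_mul] at h1
      exact mul_right_cancel₀ (h k) (by linear_combination h1)
    exact hne ((key p₁).trans (key p₂).symm)
  · have hz := rows_zero_of_zero hM h7 hno hyM (hdiag 0)
    have hu : ∀ {x : GL (Fin 4) F}, x ∈ M → ¬ Mono x → ∀ {r p q : Fin 4},
        (x : Matrix (Fin 4) (Fin 4) F) r p = 0 → (x : Matrix (Fin 4) (Fin 4) F) r q = 0 → p = q :=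
      fun hx hxm => row_zero_unique_four hM h7 (by simp) hno hx hxm
    have hcu : ∀ {x : GL (Fin 4) F}, x ∈ M → ¬ Mono x → ∀ {r p q : Fin 4},
        (x : Matrix (Fin 4) (Fin 4) F) p r = 0 → (x : Matrix (Fin 4) (Fin 4) F) q r = 0 → p = q :=
      fun hx hxm => col_unique_of_row hM
        (fun {_} hN hn {_} hx hxm => row_zero_unique_four hN h7 (by simp) hn hx hxm) hno hx hxm
    have hym : ¬ Mono y⁻¹ := fun e => hmono (by simpa using e.inv)
    have hne' : ∀ j : Fin 4, j ≠ 0 → (y : Matrix (Fin 4) (Fin 4) F) 0 j ≠ 0 := fun j hj e =>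
      hj (hu hyM hmono e (hdiag 0))
    have hE : ∀ j : Fin 4, j ≠ 0 →
        ((y⁻¹ : GL (Fin 4) F) : Matrix (Fin 4) (Fin 4) F) j 0 = 0 ∨
          (y : Matrix (Fin 4) (Fin 4) F) 0 j * ((y⁻¹ : GL (Fin 4) F) : Matrix (Fin 4) (Fin 4) F) j 0 = 1 :=
      fun j hj => (entry_prod_of_unique hM (by simp) hu hyM hmono 0 j (hz 0).1 (hz j).2).imp
        (fun e => (mul_eq_zero.1 e).resolve_left (hne' j hj)) id
    have h1 : ((y : Matrix (Fin 4) (Fin 4) F) * ((y⁻¹ : GL (Fin 4) F) : Matrix (Fin 4) (Fin 4) F)) 0 0 = 1 := by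
      rw [← Units.val_mul, mul_inv_cancel, Units.val_one, Matrix.one_apply_eq]
    rw [Matrix.mul_apply, Fin.sum_univ_four, hdiag 0, zero_mul, zero_add] at h1
    rcases hE 1 (by decide) with e1 | e1 <;> rcases hE 2 (by decide) with e2 | e2 <;>
      rcases hE 3 (by decide) with e3 | e3
    all_goals first
      | exact absurd (hcu (M.inv_mem hyM) hym e1 e2) (by decide)
      | exact absurd (hcu (M.inv_mem hyM) hym e1 e3) (by decide)
      | exact absurd (hcu (M.inv_mem hyM) hym e2 e3) (by decide)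
      | skip
    · rw [e1, mul_zero, zero_add, e2, e3] at h1; exact one_ne_zero (by linear_combination h1)
    · rw [e2, mul_zero, add_zero, e1, e3] at h1; exact one_ne_zero (by linear_combination h1)
    · rw [e3, mul_zero, add_zero, e1, e2] at h1; exact one_ne_zero (by linear_combination h1)
    · rw [e1, e2, e3] at h1; exact h2 (by linear_combination h1)

/-- The monomial group is maximal in degree four, over at least seven scalars. -/
theorem specialLinear_le_four (hM : Over M) (h7 : 7 ≤ Fintype.card F) {m : GL (Fin 4) F}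
    (hm : m ∈ M) (hnm : ¬ Mono m) : Cfsg.Geo.specialLinear (Fin 4) F ≤ M := by
  by_contra hgoal
  have hno : ∀ a b, a ≠ b → ¬ ElemIn M a b := fun a b hab h =>
    hgoal (specialLinear_le_of_elem hM (by simp) hab h)
  exact false_of_zeros hM (by omega) (by simp) (fun hx hxm => row_zero_unique_four hM h7 (by simp) hno hx hxm)
    (fun hx hxm => col_unique_of_row hM
      (fun {_} hN hn {_} hx hxm => row_zero_unique_four hN h7 (by simp) hn hx hxm) hno hx hxm)
    (fun hx _ => exists_row_zero_four hM h7 hno hx) hm hnm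

end four

end Cfsg.Agent.MaxCl.Monom
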