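/-
The similarity group of a quadratic form in odd characteristic is maximal in the special linear group in every
dimension at least four, for forms of either sign.

An element `g` outside the similarities takes some singular `a` to a non-singular vector. The elements of the
overgroup fixing `a` then induce all transvections modulo `a` (the stabiliser of `g a` in the Siegel group moves the
axis of the Siegel elements at `a` to every hyperplane through `a`), one of them moves a Siegel element at `a` to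
another one times a transvection with centre `a`, and the centres of full transvection groups form a subspace.
-/
import Cfsg.Agent.Lib.MaxCl.OrthParabolic

set_option autoImplicit false
set_option linter.unusedSectionVars false

namespace Cfsg.Agent.MaxCl.Orth.SLFour

open scoped MatrixGroups Matrix
open Module (finrank)

variable {ι : Type} [Fintype ι] [DecidableEq ι] {F : Type*} [Field F] {Q : QuadraticForm F (ι → F)}

set_option quotPrecheck false in
local notation "B" => QuadraticMap.polar (⇑Q)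

variable [Finite F] (hQ : (QuadraticMap.polarBilin Q).Nondegenerate) (h2 : (2 : F) ≠ 0)

/-- the determinant of a Siegel element is one -/
theorem sg_mem_sl (hQ : (QuadraticMap.polarBilin Q).Nondegenerate) (h2 : (2 : F) ≠ 0) (u w : ι → F) : sg Q u w ∈ Cfsg.Geo.specialLinear ι F := by
  by_cases h : Q u = 0 ∧ B u w = 0
  swap
  · rw [sg_of_not Q h]; exact one_mem _
  obtain ⟨hu, huw⟩ := h
  refine MonoidHom.mem_ker.2 (Units.ext ?_)
  show ((sg Q u w : GL ι F) : Matrix ι ι F).det = 1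
  have hiso : sg Q u ((1 / 2 : F) • w) * sg Q u ((1 / 2 : F) • w) = sg Q u w := by
    have h' : B u ((1 / 2 : F) • w) = 0 := by rw [B_smul_right Q, huw, mul_zero]
    rw [sg_add Q hu h' h', ← add_smul]
    congr 1
    rw [show (1 / 2 + 1 / 2 : F) = 1 by field_simp; ring, one_smul]
  rw [← hiso, Units.val_mul, Matrix.det_mul]
  obtain ⟨s, hs⟩ : ∃ s : GL ι F, s = sg Q u ((1 / 2 : F) • w) := ⟨_, rfl⟩
  rw [← hs]
  have hsI : s ∈ isometryGroup F Q := hs ▸ sg_mem_iso Q _ _
  obtain ⟨G, hG⟩ : ∃ G : Matrix ι ι F, G = Matrix.of fun i j => B (Pi.single i (1 : F)) (Pi.single j 1) := ⟨_, rfl⟩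
  have hGs : (s : Matrix ι ι F)ᵀ * G * (s : Matrix ι ι F) = G := by
    have hb : ∀ x y : ι → F, B x y = x ⬝ᵥ (G *ᵥ y) := fun x y => by
      have := LinearMap.toMatrix₂'_apply (R := F) (QuadraticMap.polarBilin Q)
      have e : G = LinearMap.toMatrix₂' F (QuadraticMap.polarBilin Q) := by
        ext i j; rw [hG, Matrix.of_apply, LinearMap.toMatrix₂'_apply]; rfl
      rw [e, ← Matrix.toLinearMap₂'_apply', Matrix.toLinearMap₂'_toMatrix', QuadraticMap.polarBilin_apply_apply]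
    ext i j
    have h1 := B_act hsI (Pi.single i 1) (Pi.single j 1)
    rw [hb, hb, act_apply, act_apply, Matrix.mulVec_mulVec, Matrix.dotProduct_mulVec, Matrix.vecMul_mulVec,
      ← Matrix.dotProduct_mulVec, ← Matrix.mul_assoc] at h1
    simpa using h1
  have hG0 : G.det ≠ 0 := by
    have e : G = LinearMap.toMatrix₂' F (QuadraticMap.polarBilin Q) := by
      ext i j; rw [hG, Matrix.of_apply, LinearMap.toMatrix₂'_apply]; rfl
    rw [e]
    exact (LinearMap.BilinForm.nondegenerate_toMatrix'_iff.2 hQ).det_ne_zero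
  have h1 := congrArg Matrix.det hGs
  rw [Matrix.det_mul, Matrix.det_mul, Matrix.det_transpose] at h1
  exact mul_right_cancel₀ hG0 (by linear_combination h1)

include hQ

theorem finrank_perp_pair (u v : ι → F) :
    Fintype.card ι ≤ finrank F (perp Q (Submodule.span F (Set.range ![u, v]))) + 2 := by
  rw [finrank_perp hQ]
  have := finrank_span_list_le (F := F) ![u, v]
  omega

/-- an element preserving the singular vectors is a similarity -/
theorem similarity_of_cone (h2 : (2 : F) ≠ 0) (h4 : 4 ≤ Fintype.card ι) (g : GL ι F)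
    (hg : ∀ a, Q a = 0 → Q (act g a) = 0) : g ∈ Cfsg.Geo.quadSimilarityGroup ⇑Q := by
  obtain ⟨u, -, hu0, hu⟩ := exists_singular Q (D := (⊤ : Submodule F (ι → F))) (by
    rw [finrank_top, Module.finrank_pi]; omega)
  obtain ⟨y, hy⟩ := exists_B_ne_zero hQ hu0
  obtain ⟨v, -, hv, huv⟩ := exists_partner Q (W := ⊤) hu trivial trivial hy
  obtain ⟨W, hW⟩ : ∃ W, W = perp Q (Submodule.span F (Set.range ![u, v])) := ⟨_, rfl⟩
  have hWu : ∀ w ∈ W, B u w = 0 ∧ B v w = 0 := fun w hw => by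
    rw [hW, mem_perp_span] at hw
    exact ⟨hw u ⟨0, rfl⟩, hw v ⟨1, rfl⟩⟩
  obtain ⟨lam, hlam⟩ : ∃ lam, lam = B (act g u) (act g v) := ⟨_, rfl⟩
  have hcone : ∀ w ∈ W, ∀ s r : F, s * r = -Q w →
      0 = s * r * lam + Q (act g w) + (s * B (act g u) (act g w) + r * B (act g v) (act g w)) := by
    intro w hw s r hsr
    have h0 : Q (s • u + r • v + w) = 0 := by
      rw [Q_add Q, Q_add Q, Q_smul Q, Q_smul Q, hu, hv, B_add_left Q, B_smul_left Q, B_smul_left Q, B_smul_left Q,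
        B_smul_right Q, huv, (hWu w hw).1, (hWu w hw).2]
      linear_combination hsr
    have h1 := hg _ h0
    rw [map_add (act g), map_add (act g), map_smul (act g), map_smul (act g), Q_add Q, Q_add Q, Q_smul Q, Q_smul Q, hg u hu, hg v hv,
      B_add_left Q, B_smul_left Q, B_smul_left Q, B_smul_left Q, B_smul_right Q, ← hlam] at h1
    linear_combination -h1
  obtain ⟨α, hα⟩ : ∃ α : (ι → F) →ₗ[F] F, α = (QuadraticMap.polarBilin Q (act g u)).comp (act g) := ⟨_, rfl⟩
  obtain ⟨β, hβ⟩ : ∃ β : (ι → F) →ₗ[F] F, β = (QuadraticMap.polarBilin Q (act g v)).comp (act g) := ⟨_, rfl⟩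
  have hαz : ∀ w, α w = B (act g u) (act g w) := fun w => by rw [hα]; rfl
  have hβz : ∀ w, β w = B (act g v) (act g w) := fun w => by rw [hβ]; rfl
  have hQ' : ∀ w ∈ W, Q (act g w) = lam * Q w := by
    intro w hw
    have h1 := hcone w hw 1 (-Q w) (by ring)
    have h3 := hcone (-w) (W.neg_mem hw) 1 (-Q w) (by rw [Q_neg Q]; ring)
    rw [map_neg, Q_neg Q, B_neg_right Q, B_neg_right Q] at h3
    refine mul_left_cancel₀ h2 ?_
    linear_combination -h1 - h3
  have hkill : ∀ γ δ : (ι → F) →ₗ[F] F, (∀ w ∈ W, δ w = Q w * γ w) → ∀ w ∈ W, γ w = 0 := by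
    intro γ δ h
    -- polarisation
    have hpol : ∀ w ∈ W, ∀ w' ∈ W, Q w' * γ w + B w w' * γ w' = 0 := by
      intro w hw w' hw'
      have e1 := h _ (W.add_mem hw hw')
      have e2 := h _ (W.sub_mem hw hw')
      rw [map_add δ, map_add γ, Q_add Q, h w hw, h w' hw'] at e1
      rw [map_sub δ, map_sub γ, Q_sub Q, h w hw, h w' hw'] at e2
      refine mul_left_cancel₀ h2 ?_
      linear_combination -e1 - e2
    intro w₀ hw₀
    by_contra hγ
    obtain ⟨z, hz, hz0, hγz⟩ : ∃ z ∈ W, z ≠ 0 ∧ γ z = 0 := by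
      obtain ⟨y, hy, hyn⟩ := SetLike.not_le_iff_exists.1 (show ¬ W ≤ F ∙ w₀ from fun hle => by
        have h0 := Submodule.finrank_mono hle
        have h1 := finrank_perp_pair hQ u v
        rw [← hW] at h1
        have h3 : finrank F (F ∙ w₀) ≤ 1 := (finrank_span_le_card _).trans (by simp)
        omega)
      refine ⟨y - (γ y / γ w₀) • w₀, W.sub_mem hy (W.smul_mem _ hw₀), fun e => hyn ?_, ?_⟩
      · rw [sub_eq_zero.1 e]
        exact Submodule.smul_mem _ _ (Submodule.mem_span_singleton_self _)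
      · rw [map_sub, map_smul, smul_eq_mul, div_mul_cancel₀ _ hγ, sub_self]
    have hQz : Q z = 0 := by
      have := hpol w₀ hw₀ z hz
      rw [hγz, mul_zero, add_zero] at this
      exact (mul_eq_zero.1 this).resolve_right hγ
    have hzW : ∀ w ∈ W, B z w = 0 := by
      intro w hw
      by_cases hw' : γ w = 0
      · have h1 := hpol w₀ hw₀ (z + w) (W.add_mem hz hw)
        have h3 := hpol w₀ hw₀ w hw
        rw [map_add γ, hγz, hw', add_zero, mul_zero, add_zero, Q_add Q, hQz] at h1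
        rw [hw', mul_zero, add_zero] at h3
        refine (mul_eq_zero.1 (show B z w * γ w₀ = 0 from ?_)).resolve_right hγ
        linear_combination h1 - h3
      · have := hpol z hz w hw
        rw [hγz, mul_zero, zero_add] at this
        exact (mul_eq_zero.1 this).resolve_right hw'
    obtain ⟨y, hy⟩ := exists_B_ne_zero hQ hz0
    refine hy ?_
    obtain ⟨p, hp⟩ : ∃ p, p = y - B v y • u - B u y • v := ⟨_, rfl⟩
    have hpW : p ∈ W := by
      rw [hW, mem_perp_span]
      rintro _ ⟨i, rfl⟩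
      fin_cases i <;>
      · simp only [hp, Fin.zero_eta, Fin.mk_one, Matrix.cons_val_zero, Matrix.cons_val_one]
        rw [B_sub_right Q, B_sub_right Q, B_smul_right Q, B_smul_right Q]
        simp [B_self_of_singular Q hu, B_self_of_singular Q hv, huv, B_comm Q v u]
    have hzp := hzW p hpW
    rw [hp, B_sub_right Q, B_sub_right Q, B_smul_right Q, B_smul_right Q, B_comm Q z u, (hWu z hz).1,
      B_comm Q z v, (hWu z hz).2] at hzp
    linear_combination hzp
  have hα0 : ∀ w ∈ W, α w = 0 := hkill α β fun w hw => by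
    have := hcone w hw (-Q w) 1 (by ring)
    rw [hQ' w hw, ← hαz, ← hβz] at this
    linear_combination -this
  have hβ0 : ∀ w ∈ W, β w = 0 := hkill β α fun w hw => by
    have := hcone w hw 1 (-Q w) (by ring)
    rw [hQ' w hw, ← hαz, ← hβz] at this
    linear_combination -this
  have hall : ∀ x, Q (act g x) = lam * Q x := by
    intro x
    obtain ⟨p, hp⟩ : ∃ p, p = x - B v x • u - B u x • v := ⟨_, rfl⟩
    have hpW : p ∈ W := by
      rw [hW, mem_perp_span]
      rintro _ ⟨i, rfl⟩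
      fin_cases i <;>
      · simp only [hp, Fin.zero_eta, Fin.mk_one, Matrix.cons_val_zero, Matrix.cons_val_one]
        rw [B_sub_right Q, B_sub_right Q, B_smul_right Q, B_smul_right Q]
        simp [B_self_of_singular Q hu, B_self_of_singular Q hv, huv, B_comm Q v u]
    have hx : x = B v x • u + B u x • v + p := by rw [hp]; abel
    have ha := hα0 p hpW
    have hb := hβ0 p hpW
    rw [hαz] at ha
    rw [hβz] at hb
    rw [hx]
    simp only [map_add, map_smul, Q_add Q, Q_smul Q, hg u hu, hg v hv, hu, hv, B_add_left Q, B_smul_left Q,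
      B_smul_right Q, ← hlam, huv, ha, hb, (hWu p hpW).1, (hWu p hpW).2, hQ' p hpW]
    ring
  have hlam0 : lam ≠ 0 := fun e => by
    have h1 := hall (act g⁻¹ (u + v))
    rw [act_act_inv, e, zero_mul, Q_add Q, hu, hv, huv] at h1
    simp at h1
  exact ⟨Units.mk0 lam hlam0, fun w => by rw [Units.val_mk0, ← act_apply, hall]⟩

/-- a singular vector of a non-degenerate subspace meeting a given vector -/
theorem exists_singular_meet (h2 : (2 : F) ≠ 0) {D : Submodule F (ι → F)} (hdim : 3 ≤ finrank F D)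
    (hD : ∀ x ∈ D, x ≠ 0 → ∃ y ∈ D, B x y ≠ 0) {x : ι → F} (hx : x ∈ D) (hx0 : x ≠ 0) :
    ∃ u ∈ D, Q u = 0 ∧ B u x ≠ 0 := by
  by_cases hQx : Q x = 0
  · obtain ⟨y, hy, hxy⟩ := hD x hx hx0
    obtain ⟨v, hv, hQv, hxv⟩ := exists_partner Q hQx hx hy hxy
    exact ⟨v, hv, hQv, by rw [B_comm Q, hxv]; exact one_ne_zero⟩
  obtain ⟨u, hu, hu0, hQu⟩ := exists_singular Q hdim
  by_cases hux : B u x = 0
  swap
  · exact ⟨u, hu, hQu, hux⟩
  obtain ⟨y, hy, huy⟩ := hD u hu hu0
  obtain ⟨v, hv, hQv, huv⟩ := exists_partner Q hQu hu hy huy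
  by_cases hvx : B v x = 0
  swap
  · exact ⟨v, hv, hQv, hvx⟩
  refine ⟨v + x - Q x • u, D.sub_mem (D.add_mem hv hx) (D.smul_mem _ hu), ?_, ?_⟩
  · rw [Q_sub Q, Q_add Q, Q_smul Q, hQv, hQu, B_smul_right Q, B_add_left Q, B_comm Q v u, huv, B_comm Q x u,
      hux, hvx]
    ring
  · rw [B_sub_left Q, B_add_left Q, B_smul_left Q, hvx, hux, B_self Q, zero_add, mul_zero, sub_zero]
    exact mul_ne_zero h2 hQx

/-- a subspace invariant under the Siegel elements of a non-degenerate subspace meets it trivially or contains it -/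
theorem le_of_invariant (h2 : (2 : F) ≠ 0) {D W : Submodule F (ι → F)} (hdim : 3 ≤ finrank F D)
    (hD : ∀ x ∈ D, x ≠ 0 → ∃ y ∈ D, B x y ≠ 0)
    (hW : ∀ u ∈ D, ∀ w ∈ D, Q u = 0 → B u w = 0 → ∀ y ∈ W, act (sg Q u w) y ∈ W)
    {x : ι → F} (hxD : x ∈ D) (hxW : x ∈ W) (hx0 : x ≠ 0) : D ≤ W := by
  obtain ⟨u, hu, hQu, hux⟩ := exists_singular_meet hQ h2 hdim hD hxD hx0
  have hu0 : u ≠ 0 := fun e => hux (by rw [e, B_zero_left Q])
  obtain ⟨y, hy, huy⟩ := hD u hu hu0
  obtain ⟨v, hv, hQv, huv⟩ := exists_partner Q hQu hu hy huy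
  obtain ⟨w, hw, huw, hQw⟩ : ∃ w ∈ D, B u w = 0 ∧ Q w ≠ 0 := by
    obtain ⟨z, hz, hzP⟩ := SetLike.not_le_iff_exists.1 (show ¬ D ≤ Submodule.span F (Set.range ![u, v]) from
      fun hle => by
        have h0 := Submodule.finrank_mono hle
        have h1 := finrank_span_list_le (F := F) ![u, v]
        omega)
    obtain ⟨p, hp⟩ : ∃ p, p = z - B v z • u - B u z • v := ⟨_, rfl⟩
    have hpD : p ∈ D := hp ▸ D.sub_mem (D.sub_mem hz (D.smul_mem _ hu)) (D.smul_mem _ hv)
    have hup : B u p = 0 := by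
      rw [hp, B_sub_right Q, B_sub_right Q, B_smul_right Q, B_smul_right Q, B_self_of_singular Q hQu, huv]; ring
    have hvp : B v p = 0 := by
      rw [hp, B_sub_right Q, B_sub_right Q, B_smul_right Q, B_smul_right Q, B_self_of_singular Q hQv,
        B_comm Q v u, huv]
      ring
    have hp0 : p ≠ 0 := fun e => hzP (by
      have : z = B v z • u + B u z • v := by
        rw [hp, sub_sub, sub_eq_zero] at e
        exact e
      rw [this]
      exact Submodule.add_mem _ (Submodule.smul_mem _ _ (Submodule.subset_span ⟨0, rfl⟩))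
        (Submodule.smul_mem _ _ (Submodule.subset_span ⟨1, rfl⟩)))
    by_cases hQp : Q p = 0
    swap
    · exact ⟨p, hpD, hup, hQp⟩
    obtain ⟨r, hr, hpr⟩ := hD p hpD hp0
    obtain ⟨r', hr'⟩ : ∃ r', r' = r - B v r • u - B u r • v := ⟨_, rfl⟩
    have hrD : r' ∈ D := hr' ▸ D.sub_mem (D.sub_mem hr (D.smul_mem _ hu)) (D.smul_mem _ hv)
    have hur : B u r' = 0 := by
      rw [hr', B_sub_right Q, B_sub_right Q, B_smul_right Q, B_smul_right Q, B_self_of_singular Q hQu, huv]; ring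
    by_cases hQr : Q r' = 0
    swap
    · exact ⟨r', hrD, hur, hQr⟩
    refine ⟨p + r', D.add_mem hpD hrD, by rw [B_add_right Q, hup, hur, add_zero], ?_⟩
    rw [Q_add Q, hQp, hQr, hr', B_sub_right Q, B_sub_right Q, B_smul_right Q, B_smul_right Q, B_comm Q p u, hup,
      B_comm Q p v, hvp]
    simpa using hpr
  have hstep : ∀ t ∈ D, B u t = 0 → B u x • t - (B t x + Q t * B u x) • u ∈ W := by
    intro t ht hut
    have h1 := W.sub_mem (hW u hu t ht hQu hut x hxW) hxW
    rw [act_sg Q hQu hut] at h1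
    convert h1 using 1
    abel
  have huW : u ∈ W := by
    have h1 := W.add_mem (hstep w hw huw) (hstep (-w) (D.neg_mem hw) (by rw [B_neg_right Q, huw, neg_zero]))
    rw [B_neg_left Q, Q_neg Q, show B u x • w - (B w x + Q w * B u x) • u + (B u x • -w - (-B w x + Q w * B u x) • u)
      = (-(2 * Q w * B u x)) • u by module] at h1
    exact (Submodule.smul_mem_iff _ (neg_ne_zero.2 (mul_ne_zero (mul_ne_zero h2 hQw) hux))).1 h1
  intro t ht
  obtain ⟨t', ht'⟩ : ∃ t', t' = t - (B u t / B u x) • x := ⟨_, rfl⟩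
  have htD : t' ∈ D := ht' ▸ D.sub_mem ht (D.smul_mem _ hxD)
  have hut : B u t' = 0 := by
    rw [ht', B_sub_right Q, B_smul_right Q, div_mul_cancel₀ _ hux, sub_self]
  have h1 := W.add_mem (hstep t' htD hut) (W.smul_mem (B t' x + Q t' * B u x) huW)
  rw [sub_add_cancel, Submodule.smul_mem_iff _ hux, ht'] at h1
  have h3 := W.add_mem h1 (W.smul_mem (B u t / B u x) hxW)
  rwa [sub_add_cancel] at h3

omit hQ in
/-- every transvection modulo `a` with axis `ψ` is induced by an element of `M` fixing `a` -/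
def Ax (M : Subgroup (GL ι F)) (a : ι → F) (ψ : (ι → F) →ₗ[F] F) : Prop :=
  ψ a = 0 ∧ ∀ w, ψ w = 0 → ∃ m ∈ M, act m a = a ∧ ∀ x, ∃ r : F, act m x = x + ψ x • w + r • a

omit hQ in
theorem Ax.comp {M : Subgroup (GL ι F)} {a : ι → F} {ψ : (ι → F) →ₗ[F] F} (h : Ax M a ψ) {m : GL ι F}
    (hm : m ∈ M) (ha : act m a = a) : Ax M a (ψ ∘ₗ act m) := by
  refine ⟨by rw [LinearMap.comp_apply, ha, h.1], fun w hw => ?_⟩
  obtain ⟨n, hn, hna, hn1⟩ := h.2 (act m w) hw
  have hia : act m⁻¹ a = a := by conv_lhs => rw [← ha, act_inv_act]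
  refine ⟨m⁻¹ * n * m, M.mul_mem (M.mul_mem (M.inv_mem hm) hn) hm, by rw [act_mul, act_mul, ha, hna, hia],
    fun x => ?_⟩
  obtain ⟨r, hr⟩ := hn1 (act m x)
  exact ⟨r, by rw [act_mul, act_mul, hr, map_add, map_add, map_smul, map_smul, act_inv_act, act_inv_act, hia,
    LinearMap.comp_apply]⟩

variable {M : Subgroup (GL ι F)}

/-- all axes through `a` -/
theorem ax_all (h2 : (2 : F) ≠ 0) (h4 : 4 ≤ Fintype.card ι) (hsg : ∀ u w, sg Q u w ∈ M) {g : GL ι F} (hg : g ∈ M)
    {a : ι → F} (ha : Q a = 0) (hA : Q (act g a) ≠ 0) {ψ : (ι → F) →ₗ[F] F} (hψ : ψ a = 0) : Ax M a ψ := by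
  have ha0 : a ≠ 0 := fun e => hA (by rw [e, map_zero, QuadraticMap.map_zero])
  have hbase : Ax M a (QuadraticMap.polarBilin Q a) := by
    refine ⟨B_self_of_singular Q ha, fun w (hw : B a w = 0) => ⟨sg Q a w, hsg a w, ?_, fun x => ?_⟩⟩
    · exact act_sg_fix Q ha hw (B_self_of_singular Q ha) ((B_comm Q w a).trans hw)
    · refine ⟨-(B w x + Q w * B a x), ?_⟩
      rw [act_sg Q ha hw, QuadraticMap.polarBilin_apply_apply]
      module
  have hsmul : ∀ (c : F) (φ : (ι → F) →ₗ[F] F), Ax M a φ → Ax M a (c • φ) := by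
    intro c φ h
    refine ⟨by rw [LinearMap.smul_apply, h.1, smul_zero], fun w hw => ?_⟩
    obtain ⟨m, hm, hma, hm1⟩ := h.2 (c • w) (by
      rw [map_smul]; exact hw)
    refine ⟨m, hm, hma, fun x => ?_⟩
    obtain ⟨r, hr⟩ := hm1 x
    exact ⟨r, by rw [hr, LinearMap.smul_apply, smul_smul, smul_eq_mul, mul_comm c]⟩
  obtain ⟨S, hS⟩ : ∃ S : Submodule F ((ι → F) →ₗ[F] F), ∀ φ, φ ∈ S ↔ Ax M a φ := by
    refine ⟨{ carrier := {φ | Ax M a φ}
              zero_mem' := ⟨rfl, fun w _ => ⟨1, M.one_mem, act_one a, fun x => ⟨0, by simp [act_one]⟩⟩⟩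
              smul_mem' := hsmul
              add_mem' := ?_ }, fun φ => Iff.rfl⟩
    intro φ₁ φ₂ h₁ h₂
    by_cases hk : ∀ w, φ₁ w = 0 → φ₂ w = 0
    · by_cases h0 : φ₁ = 0
      · show Ax M a (φ₁ + φ₂)
        rwa [h0, zero_add]
      obtain ⟨z, hz⟩ : ∃ z, φ₁ z ≠ 0 := by
        by_contra hc; push Not at hc; exact h0 (LinearMap.ext hc)
      have e : φ₁ + φ₂ = (1 + φ₂ z / φ₁ z) • φ₁ := LinearMap.ext fun x => by
        have h3 := hk (x - (φ₁ x / φ₁ z) • z) (by
          rw [map_sub, map_smul, smul_eq_mul, div_mul_cancel₀ _ hz, sub_self])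
        rw [map_sub, map_smul, smul_eq_mul, sub_eq_zero] at h3
        rw [LinearMap.add_apply, LinearMap.smul_apply, smul_eq_mul, h3]
        field_simp
      show Ax M a (φ₁ + φ₂)
      rw [e]
      exact hsmul _ _ h₁
    push Not at hk
    obtain ⟨w, hw1, hw2⟩ := hk
    obtain ⟨m, hm, hma, hm1⟩ := h₁.2 ((φ₂ w)⁻¹ • w) (by rw [map_smul, hw1, smul_zero])
    show Ax M a (φ₁ + φ₂)
    convert h₂.comp hm hma using 1
    refine LinearMap.ext fun x => ?_
    obtain ⟨r, hr⟩ := hm1 x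
    rw [LinearMap.comp_apply, hr, map_add, map_add, map_smul, map_smul, map_smul, h₂.1, LinearMap.add_apply]
    simp [inv_mul_cancel₀ hw2, add_comm]
  rw [← hS]
  by_contra hψS
  obtain ⟨H, hH⟩ : ∃ H, H = Submodule.dualCoannihilator (R := F) (M := ι → F) S := ⟨_, rfl⟩
  have hmem : ∀ x, x ∈ H ↔ ∀ φ, Ax M a φ → φ x = 0 := fun x => by
    rw [hH, Submodule.mem_dualCoannihilator]
    exact ⟨fun h φ hφ => h φ ((hS φ).2 hφ), fun h φ hφ => h φ ((hS φ).1 hφ)⟩
  obtain ⟨x₀, hx₀, hx₀a⟩ : ∃ x₀ ∈ H, x₀ ∉ F ∙ a := by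
    refine SetLike.not_le_iff_exists.1 fun hle => hψS ?_
    rw [← Subspace.dualCoannihilator_dualAnnihilator_eq (W := S), Submodule.mem_dualAnnihilator]
    intro x hx
    obtain ⟨r, rfl⟩ := Submodule.mem_span_singleton.1 (hle (hH ▸ hx))
    rw [map_smul, hψ, smul_zero]
  obtain ⟨A, hAdef⟩ : ∃ A, A = act g a := ⟨_, rfl⟩
  rw [← hAdef] at hA
  have hAA : B A A ≠ 0 := by rw [B_self Q]; exact mul_ne_zero h2 hA
  have hA0 : A ≠ 0 := fun e => hA (by rw [e, QuadraticMap.map_zero])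
  have hdim : 3 ≤ finrank F (perp Q (F ∙ A)) := by
    rw [finrank_perp hQ, finrank_span_singleton hA0]; omega
  have hproj : ∀ y, y - (B A y / B A A) • A ∈ perp Q (F ∙ A) := fun y => by
    rw [mem_perp_span]
    rintro w rfl
    rw [B_sub_right Q, B_smul_right Q, div_mul_cancel₀ _ hAA, sub_self]
  have hnd : ∀ x ∈ perp Q (F ∙ A), x ≠ 0 → ∃ y ∈ perp Q (F ∙ A), B x y ≠ 0 := by
    intro x hx hx0
    obtain ⟨y, hy⟩ := exists_B_ne_zero hQ hx0
    rw [mem_perp_span] at hx
    refine ⟨_, hproj y, ?_⟩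
    rwa [B_sub_right Q, B_smul_right Q, B_comm Q x A, hx A rfl, mul_zero, sub_zero]
  obtain ⟨W, hW⟩ : ∃ W, W = H.map (act g) := ⟨_, rfl⟩
  have hAW : A ∈ W := hW ▸ ⟨a, (hmem a).2 fun φ hφ => hφ.1, hAdef.symm⟩
  have hyW : act g x₀ ∈ W := hW ▸ ⟨x₀, hx₀, rfl⟩
  have hle : perp Q (F ∙ A) ≤ W := by
    refine le_of_invariant hQ h2 hdim hnd ?_ (hproj (act g x₀)) (W.sub_mem hyW (W.smul_mem _ hAW)) ?_
    · intro u hu w hw hQu huw y hy
      rw [mem_perp_span] at hu hw
      rw [hW] at hy ⊢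
      obtain ⟨z, hz, rfl⟩ := hy
      refine ⟨act (g⁻¹ * sg Q u w * g) z, (hmem _).2 fun φ hφ => ?_, by rw [act_mul, act_mul, act_act_inv]⟩
      refine (hmem z).1 hz _ (hφ.comp (M.mul_mem (M.mul_mem (M.inv_mem hg) (hsg u w)) hg) ?_)
      rw [act_mul, act_mul, ← hAdef, act_sg_fix Q hQu huw ((B_comm Q u A).trans (hu A rfl))
        ((B_comm Q w A).trans (hw A rfl)), hAdef, act_inv_act]
    · intro e
      refine hx₀a (Submodule.mem_span_singleton.2 ⟨B A (act g x₀) / B A A, act_injective g ?_⟩)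
      rw [map_smul, ← hAdef]
      exact (sub_eq_zero.1 e).symm
  obtain ⟨z, hz⟩ := exists_B_ne_zero hQ ha0
  have htop : act g z ∈ W := by
    have := W.add_mem (hle (hproj (act g z))) (W.smul_mem (B A (act g z) / B A A) hAW)
    rwa [sub_add_cancel] at this
  rw [hW] at htop
  obtain ⟨z', hz', e⟩ := htop
  exact hz ((hmem z).1 (act_injective g e ▸ hz') _ hbase)

/-- all transvections with centre `a` -/
theorem tv_mem (h2 : (2 : F) ≠ 0) (h4 : 4 ≤ Fintype.card ι) (hsg : ∀ u w, sg Q u w ∈ M) {a : ι → F}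
    (ha : Q a = 0) (ha0 : a ≠ 0) (hax : ∀ ψ : (ι → F) →ₗ[F] F, ψ a = 0 → Ax M a ψ) {φ : (ι → F) →ₗ[F] F}
    (hφ : φ a = 0) : tv φ a ∈ M := by
  obtain ⟨y, hy⟩ := exists_B_ne_zero hQ ha0
  obtain ⟨v, -, hv, hav⟩ := exists_partner Q (W := ⊤) ha trivial trivial hy
  have hdim := finrank_perp_pair hQ a v
  obtain ⟨w, hw, hQw⟩ : ∃ w ∈ perp Q (Submodule.span F (Set.range ![a, v])), Q w ≠ 0 := by
    by_contra hc
    push Not at hc
    obtain ⟨s, hs, hs0⟩ := SetLike.not_le_iff_exists.1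
      (show ¬ perp Q (Submodule.span F (Set.range ![a, v])) ≤ ⊥ from fun hle => by
        have := Submodule.finrank_mono hle
        rw [finrank_bot] at this
        omega)
    obtain ⟨t, ht⟩ := exists_B_ne_zero hQ (show s ≠ 0 from fun e => hs0 (by simp [e]))
    obtain ⟨t', ht'⟩ : ∃ t', t' = t - B v t • a - B a t • v := ⟨_, rfl⟩
    have htP : t' ∈ perp Q (Submodule.span F (Set.range ![a, v])) := by
      rw [mem_perp_span]
      rintro _ ⟨i, rfl⟩
      fin_cases i <;>
      · simp only [ht', Fin.zero_eta, Fin.mk_one, Matrix.cons_val_zero, Matrix.cons_val_one]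
        rw [B_sub_right Q, B_sub_right Q, B_smul_right Q, B_smul_right Q]
        simp [B_self_of_singular Q ha, B_self_of_singular Q hv, hav, B_comm Q v a]
    have h1 := hc _ (Submodule.add_mem _ hs htP)
    rw [mem_perp_span] at hs
    rw [Q_add Q, hc s ((mem_perp_span Q).2 hs), hc t' htP, ht', B_sub_right Q, B_sub_right Q, B_smul_right Q,
      B_smul_right Q, B_comm Q s a, hs a ⟨0, rfl⟩, B_comm Q s v, hs v ⟨1, rfl⟩] at h1
    exact ht (by linear_combination h1)
  rw [mem_perp_span] at hw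
  have haw : B a w = 0 := hw a ⟨0, rfl⟩
  have hww : B w w ≠ 0 := by rw [B_self Q]; exact mul_ne_zero h2 hQw
  obtain ⟨z, hz, hzP⟩ : ∃ z ∈ perp Q (F ∙ a) ⊓ perp Q (F ∙ w), z ∉ Submodule.span F (Set.range ![a, w]) := by
    refine SetLike.not_le_iff_exists.1 fun hle => ?_
    obtain ⟨p, hp, hp0⟩ := SetLike.not_le_iff_exists.1
      (show ¬ perp Q (Submodule.span F (Set.range ![a, v])) ⊓ perp Q (F ∙ w) ≤ ⊥ from fun hle' => by
        have h0 := Submodule.finrank_mono hle'
        rw [finrank_bot] at h0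
        have h1 := Submodule.finrank_sup_add_finrank_inf_eq (perp Q (Submodule.span F (Set.range ![a, v])))
          (perp Q (F ∙ w))
        have h3 := Submodule.finrank_le (perp Q (Submodule.span F (Set.range ![a, v])) ⊔ perp Q (F ∙ w))
        have h5 : finrank F (F ∙ w) ≤ 1 := (finrank_span_le_card _).trans (by simp)
        rw [Module.finrank_pi] at h3
        rw [finrank_perp hQ (F ∙ w)] at h1
        omega)
    obtain ⟨hp1, hp2⟩ := hp
    rw [SetLike.mem_coe, mem_perp_span] at hp1 hp2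
    obtain ⟨f, hf⟩ := (Submodule.mem_span_range_iff_exists_fun F).1 (hle (x := p)
      ⟨(mem_perp_span Q).2 fun s hs => hs ▸ hp1 a ⟨0, rfl⟩, (mem_perp_span Q).2 hp2⟩)
    simp only [Fin.sum_univ_two, Matrix.cons_val_zero, Matrix.cons_val_one] at hf
    have h1 : B v p = 0 := hp1 v ⟨1, rfl⟩
    have h3 : B w p = 0 := hp2 w rfl
    rw [← hf, B_add_right Q, B_smul_right Q, B_smul_right Q, B_comm Q v a, hav, show B v w = 0 from hw v ⟨1, rfl⟩,
      mul_zero, add_zero, mul_one] at h1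
    rw [← hf, B_add_right Q, B_smul_right Q, B_smul_right Q, B_comm Q w a, haw, mul_zero, zero_add] at h3
    apply hp0
    rw [← hf, h1, (mul_eq_zero.1 h3).resolve_right hww, zero_smul, zero_smul, add_zero]
    exact Submodule.zero_mem _
  obtain ⟨hz1, hz2⟩ := hz
  rw [SetLike.mem_coe, mem_perp_span] at hz1 hz2
  have haz : B a z = 0 := hz1 a rfl
  have hzw : B z w = 0 := (B_comm Q z w).trans (hz2 w rfl)
  obtain ⟨ψ, hψ0, hψz⟩ := exists_dual _ hzP
  have hψa : ψ a = 0 := hψ0 a (Submodule.subset_span ⟨0, rfl⟩)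
  obtain ⟨m, hm, hma, hm1⟩ := (hax ψ hψa).2 w (hψ0 w (Submodule.subset_span ⟨1, rfl⟩))
  have hia : act m⁻¹ a = a := by conv_lhs => rw [← hma, act_inv_act]
  have hβm : ∀ x, B a (act m x) = B a x := fun x => by
    obtain ⟨r, hr⟩ := hm1 x
    rw [hr, B_add_right Q, B_add_right Q, B_smul_right Q, B_smul_right Q, haw, B_self_of_singular Q ha]
    ring
  have hβi : ∀ x, B a (act m⁻¹ x) = B a x := fun x => by rw [← hβm (act m⁻¹ x), act_act_inv]
  obtain ⟨z', hz'⟩ : ∃ z', z' = act m z := ⟨_, rfl⟩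
  have haz' : B a z' = 0 := by rw [hz', hβm, haz]
  have hQz' : Q z' = Q z + Q w := by
    obtain ⟨r, hr⟩ := hm1 z
    rw [hz', hr, hψz, one_smul, Q_add Q, Q_add Q, Q_smul Q, ha, B_add_left Q, B_smul_right Q, B_smul_right Q,
      B_comm Q z a, haz, B_comm Q w a, haw, hzw]
    ring
  obtain ⟨L, hL⟩ : ∃ L : (ι → F) →ₗ[F] F,
      L = QuadraticMap.polarBilin Q z' - (QuadraticMap.polarBilin Q z).comp (act m⁻¹) := ⟨_, rfl⟩
  have hLx : ∀ x, L x = B z' x - B z (act m⁻¹ x) := fun x => by rw [hL]; rfl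
  have hLa : L a = 0 := by rw [hLx, hia, B_comm Q z' a, haz', B_comm Q z a, haz, sub_zero]
  have hLz : L z' ≠ 0 := by
    rw [hLx, hz', act_inv_act, ← hz', B_self Q, B_self Q, hQz', show 2 * (Q z + Q w) - 2 * Q z = 2 * Q w by ring]
    exact mul_ne_zero h2 hQw
  obtain ⟨K, hK⟩ : ∃ K : (ι → F) →ₗ[F] F, K = (Q z - Q z') • QuadraticMap.polarBilin Q a := ⟨_, rfl⟩
  have hKx : ∀ x, K x = (Q z - Q z') * B a x := fun x => by rw [hK]; rfl
  have hKa : K a = 0 := by rw [hKx, B_self_of_singular Q ha, mul_zero]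
  have hc : ∀ c : F, tv (c • L + (c * c) • K) a ∈ M := by
    intro c
    have h1 : B a (c • z) = 0 := by rw [B_smul_right Q, haz, mul_zero]
    have h3 : B a (-(c • z')) = 0 := by rw [B_neg_right Q, B_smul_right Q, haz', mul_zero, neg_zero]
    rw [show tv (c • L + (c * c) • K) a = m * sg Q a (c • z) * m⁻¹ * sg Q a (-(c • z')) from gl_ext fun x => ?_]
    · exact M.mul_mem (M.mul_mem (M.mul_mem hm (hsg _ _)) (M.inv_mem hm)) (hsg _ _)
    rw [act_tv (by simp [hLa, hKa]), act_mul, act_mul, act_mul, act_sg Q ha h3, act_sg Q ha h1]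
    simp only [map_add, map_sub, map_neg, map_smul, act_act_inv, hia, hma, ← hz', LinearMap.add_apply,
      LinearMap.smul_apply, smul_eq_mul, hLx, hKx, hβi, Q_neg Q, Q_smul Q, B_smul_left Q, B_neg_left Q,
      B_add_right Q, B_sub_right Q, B_neg_right Q, B_smul_right Q, haz', haz, B_comm Q z a,
      B_self_of_singular Q ha]
    have hiz : act m⁻¹ z' = z := by rw [hz', act_inv_act]
    simp only [hiz, B_self Q, haz, mul_zero, add_zero, sub_zero]
    match_scalars <;> ring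
  have hline : ∀ k : F, tv (k • L) a ∈ M := by
    intro k
    have e : tv (k • L) a * tv ((-(k / 2)) • L + (-(k / 2) * -(k / 2)) • K) a =
        tv ((k / 2) • L + (k / 2 * (k / 2)) • K) a := by
      rw [tv_add _ _ _ (by simp [hLa]) (by simp [hLa, hKa]), ← add_assoc, ← add_smul, neg_mul_neg]
      congr 3
      field_simp
      ring
    exact (Subgroup.mul_mem_cancel_right M (hc _)).1 (e ▸ hc _)
  -- the axes of full transvection groups with centre `a`
  have hadd : ∀ φ₁ φ₂ : (ι → F) →ₗ[F] F, (φ₁ a = 0 ∧ ∀ k : F, tv (k • φ₁) a ∈ M) →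
      (φ₂ a = 0 ∧ ∀ k : F, tv (k • φ₂) a ∈ M) → ((φ₁ + φ₂) a = 0 ∧ ∀ k : F, tv (k • (φ₁ + φ₂)) a ∈ M) := by
    intro φ₁ φ₂ h₁ h₂
    refine ⟨by simp [h₁.1, h₂.1], fun k => ?_⟩
    rw [smul_add, ← tv_add _ _ _ (by simp [h₁.1]) (by simp [h₂.1])]
    exact M.mul_mem (h₁.2 k) (h₂.2 k)
  have hcomp : ∀ {n : GL ι F}, n ∈ M → act n a = a → ∀ k : F, tv (k • (L ∘ₗ act n)) a ∈ M := by
    intro n hn hna k
    have h1 := M.mul_mem (M.mul_mem (M.inv_mem hn) (hline k)) hn
    have hi : act n⁻¹ a = a := by conv_lhs => rw [← hna, act_inv_act]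
    convert h1 using 1
    refine gl_ext fun x => ?_
    rw [act_tv (by simp [hna, hLa]), act_mul, act_mul, act_tv (by simp [hLa]), map_add, map_smul, act_inv_act, hi]
    simp
  have hker : ∀ ψ : (ι → F) →ₗ[F] F, ψ a = 0 → ∀ w', ψ w' = 0 → L w' ≠ 0 → ∀ k : F, tv (k • ψ) a ∈ M := by
    intro ψ hψ' w' hψw hLw k
    obtain ⟨n, hn, hna, hn1⟩ := (hax ψ hψ').2 w' hψw
    have e : L ∘ₗ act n = L + L w' • ψ := LinearMap.ext fun x => by
      obtain ⟨r, hr⟩ := hn1 x
      rw [LinearMap.comp_apply, hr, map_add, map_add, map_smul, map_smul, hLa, smul_zero, add_zero,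
        LinearMap.add_apply, LinearMap.smul_apply, smul_eq_mul, smul_eq_mul, mul_comm]
    have h1 := (hadd _ (-L) ⟨by simp [e, hLa, hψ'], hcomp hn hna⟩
      ⟨by simp [hLa], fun k => by rw [smul_neg, ← neg_smul]; exact hline _⟩).2 (k / L w')
    rwa [e, add_neg_cancel_comm, smul_smul, div_mul_cancel₀ _ hLw] at h1
  by_cases hk : ∃ w', φ w' = 0 ∧ L w' ≠ 0
  · obtain ⟨w', h1, h3⟩ := hk
    have := hker φ hφ w' h1 h3 1
    rwa [one_smul] at this
  push Not at hk
  rcases eq_or_ne φ 0 with rfl | hφ0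
  · rw [tv_zero_left]; exact M.one_mem
  obtain ⟨t, ht⟩ : ∃ t, φ t ≠ 0 := by
    by_contra hcon; push Not at hcon; exact hφ0 (LinearMap.ext hcon)
  obtain ⟨c, hc'⟩ : ∃ c, c = L t / φ t := ⟨_, rfl⟩
  have e : L = c • φ := LinearMap.ext fun x => by
    have h3 := hk (x - (φ x / φ t) • t) (by
      rw [map_sub, map_smul, smul_eq_mul, div_mul_cancel₀ _ ht, sub_self])
    rw [map_sub, map_smul, smul_eq_mul, sub_eq_zero] at h3
    rw [h3, LinearMap.smul_apply, smul_eq_mul, hc']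
    field_simp
  have hne : c ≠ 0 := fun h0 => hLz (by rw [e, h0, zero_smul]; rfl)
  have := hline c⁻¹
  rwa [e, inv_smul_smul₀ hne] at this

/-- a group containing the Siegel elements and an element outside the similarities contains `SL` -/
theorem specialLinear_le (h2 : (2 : F) ≠ 0) (h4 : 4 ≤ Fintype.card ι) (hsg : ∀ u w, sg Q u w ∈ M) {g : GL ι F}
    (hg : g ∈ M) (hgs : g ∉ Cfsg.Geo.quadSimilarityGroup ⇑Q) : Cfsg.Geo.specialLinear ι F ≤ M := by
  obtain ⟨a, ha, hA⟩ : ∃ a, Q a = 0 ∧ Q (act g a) ≠ 0 := by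
    by_contra h
    push Not at h
    exact hgs (similarity_of_cone hQ h2 h4 g h)
  have ha0 : a ≠ 0 := fun e => hA (by rw [e, map_zero, QuadraticMap.map_zero])
  have hfull : ∀ φ : (ι → F) →ₗ[F] F, φ a = 0 → tv φ a ∈ M := fun φ hφ =>
    tv_mem hQ h2 h4 hsg ha ha0 (fun ψ hψ => ax_all hQ h2 h4 hsg hg ha hA hψ) hφ
  have hconj : ∀ {b : ι → F}, (∀ φ : (ι → F) →ₗ[F] F, φ b = 0 → tv φ b ∈ M) → ∀ {n : GL ι F}, n ∈ M →
      ∀ φ : (ι → F) →ₗ[F] F, φ (act n b) = 0 → tv φ (act n b) ∈ M := by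
    intro b hb n hn φ hφ
    have h1 := M.mul_mem (M.mul_mem hn (hb (φ ∘ₗ act n) hφ)) (M.inv_mem hn)
    rwa [conj_tv n (show (φ ∘ₗ act n) b = 0 from hφ), LinearMap.comp_assoc,
      show act n ∘ₗ act n⁻¹ = LinearMap.id from LinearMap.ext (act_act_inv n), LinearMap.comp_id] at h1
  have hsm : ∀ (c : F) {b : ι → F}, (∀ φ : (ι → F) →ₗ[F] F, φ b = 0 → tv φ b ∈ M) →
      ∀ φ : (ι → F) →ₗ[F] F, φ (c • b) = 0 → tv φ (c • b) ∈ M := by
    intro c b hb φ hφ
    rcases eq_or_ne c 0 with rfl | hc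
    · rw [zero_smul, show tv φ (0 : ι → F) = 1 from gl_ext fun x => by rw [act_tv (map_zero φ)]; simp [act_one]]
      exact M.one_mem
    rw [map_smul, smul_eq_zero] at hφ
    rw [← tv_smul_swap _ _ _ (hφ.resolve_left hc)]
    exact hb _ (by simp [hφ.resolve_left hc])
  obtain ⟨W, hW⟩ : ∃ W : Submodule F (ι → F), ∀ b, b ∈ W ↔ ∀ φ : (ι → F) →ₗ[F] F, φ b = 0 → tv φ b ∈ M := by
    refine ⟨{ carrier := {b | ∀ φ : (ι → F) →ₗ[F] F, φ b = 0 → tv φ b ∈ M}
              zero_mem' := fun φ _ => by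
                rw [show tv φ (0 : ι → F) = 1 from gl_ext fun x => by rw [act_tv (map_zero φ)]; simp [act_one]]
                exact M.one_mem
              smul_mem' := fun c b hb => hsm c hb
              add_mem' := ?_ }, fun b => Iff.rfl⟩
    intro b c hb hc
    by_cases hbc : b ∈ F ∙ c
    · obtain ⟨r, rfl⟩ := Submodule.mem_span_singleton.1 hbc
      rw [show r • c + c = (r + 1) • c by rw [add_smul, one_smul]]
      exact hsm _ hc
    obtain ⟨θ, h0, h1⟩ := exists_dual _ hbc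
    have hθc : θ c = 0 := h0 c (Submodule.mem_span_singleton_self c)
    have e : b + c = act (tv θ c) b := by rw [act_tv hθc, h1, one_smul]
    show ∀ φ : (ι → F) →ₗ[F] F, φ (b + c) = 0 → tv φ (b + c) ∈ M
    rw [e]
    exact hconj hb (hc θ hθc)
  have htop : (⊤ : Submodule F (ι → F)) ≤ W := by
    refine le_of_invariant hQ h2 (by rw [finrank_top, Module.finrank_pi]; omega)
      (fun x _ hx => ⟨_, trivial, (exists_B_ne_zero hQ hx).choose_spec⟩) ?_ (x := a) trivial ((hW a).2 hfull) ha0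
    intro u _ w _ _ _ y hy
    exact (hW _).2 (hconj ((hW y).1 hy) (hsg u w))
  exact specialLinear_le_of_transvections M fun φ b hφ => (hW b).1 (htop trivial) φ hφ

omit hQ

/-- **The similarities of a non-degenerate quadratic form are maximal in `SL_n`, `n ≥ 4`, odd characteristic.** -/
theorem orthSim_maximal {F : Type*} [Field F] [Fintype F] (n : ℕ) (hn : 4 ≤ n) (hodd : Odd (Fintype.card F))
    (Q : (Fin n → F) → F) (hQ : Cfsg.Geo.IsNondegenerateQuadraticForm Q) :
    Cfsg.Geo.IsMaximalIn (Cfsg.Geo.specialLinear (Fin n) F)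
      (Cfsg.Geo.quadSimilarityGroup Q ⊓ Cfsg.Geo.specialLinear (Fin n) F) := by
  obtain ⟨q, rfl, hnd⟩ := exists_form hQ
  have h4 : 4 ≤ Fintype.card (Fin n) := by rwa [Fintype.card_fin]
  have h2 : (2 : F) ≠ 0 := Ring.two_ne_zero fun h =>
    (Nat.not_even_iff_odd.2 hodd) (Nat.even_iff.2 (FiniteField.even_card_iff_char_two.1 h))
  refine isMaximalIn_inf ?_ fun M hM hMK hout => ?_
  · obtain ⟨u, -, hu0, hu⟩ := exists_singular q (D := (⊤ : Submodule F (Fin n → F))) (by
      rw [finrank_top, Module.finrank_pi]; omega)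
    obtain ⟨y, hy⟩ := exists_B_ne_zero hnd hu0
    obtain ⟨v, -, hv, huv⟩ := exists_partner q (W := ⊤) hu trivial trivial hy
    have huu : QuadraticMap.polarBilin q u u = 0 := B_self_of_singular q hu
    refine ⟨tv (QuadraticMap.polarBilin q u) u, MonoidHom.mem_ker.2 (Units.ext ?_), fun ⟨c, hc⟩ => ?_⟩
    · show ((tv (QuadraticMap.polarBilin q u) u : GL (Fin n) F) : Matrix (Fin n) (Fin n) F).det = 1
      rw [det_eq_of_fix_hyperplane (act_tv huu), huu, add_zero]
    have h1 := hc v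
    rw [← act_apply, act_tv huu, QuadraticMap.polarBilin_apply_apply, huv, one_smul, Q_add q, hv, hu,
      B_comm q v u, huv] at h1
    simp at h1
  obtain ⟨g, hgM, hgs⟩ := hout
  refine specialLinear_le hnd h2 h4 (fun u w => hM ⟨?_, sg_mem_sl hnd h2 u w⟩) hgM hgs
  exact ⟨1, fun v => by rw [Units.val_one, one_mul, ← act_apply, Q_act (sg_mem_iso q u w)]⟩

end Cfsg.Agent.MaxCl.Orth.SLFour
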