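/-
The special linear group in dimension four acts on alternating matrices, a six dimensional orthogonal space, with
image the derived orthogonal group.
-/
import Cfsg.Agent.Lib.Forms.Klein
import Cfsg.Agent.Lib.MaxCl.Mono.Frame

set_option autoImplicit false
set_option linter.unusedSectionVars false

namespace Cfsg.Agent.MaxCl.SLFour

open scoped MatrixGroups Matrix commutatorElement
open Module (finrank)

variable {F : Type*} [Field F]

/-- The alternating matrix of six coordinates. -/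
def Phi (x : Fin 6 → F) : Matrix (Fin 4) (Fin 4) F := Forms.alt4 (x 0) (x 1) (x 2) (x 3) (x 4) (x 5)

/-- The six coordinates. -/
def psi : Matrix (Fin 4) (Fin 4) F →ₗ[F] (Fin 6 → F) where
  toFun M := ![M 0 1, M 0 2, M 0 3, M 1 2, M 1 3, M 2 3]
  map_add' X Y := by ext i; fin_cases i <;> simp
  map_smul' a X := by ext i; fin_cases i <;> simp

theorem psi_Phi (x : Fin 6 → F) : psi (Phi x) = x := by
  ext i; fin_cases i <;> simp [psi, Phi, Forms.alt4]

theorem Phi_psi {M : Matrix (Fin 4) (Fin 4) F} (h : Forms.IsAlt4 M) : Phi (psi M) = M := by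
  conv_rhs => rw [h.eq_alt4]
  simp [Phi, psi]

theorem Phi_add (x y : Fin 6 → F) : Phi (x + y) = Phi x + Phi y := by
  ext i j; fin_cases i <;> fin_cases j <;> simp [Phi, Forms.alt4] <;> ring

theorem Phi_smul (a : F) (x : Fin 6 → F) : Phi (a • x) = a • Phi x := by
  ext i j; fin_cases i <;> fin_cases j <;> simp [Phi, Forms.alt4]

theorem isAlt_Phi (x : Fin 6 → F) : Forms.IsAlt4 (Phi x) := Forms.isAlt4_alt4 ..

theorem Phi_injective : Function.Injective (Phi (F := F)) := Function.LeftInverse.injective psi_Phi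

variable (F) in
/-- The Pfaffian form. -/
noncomputable def qf6 : QuadraticForm F (Fin 6 → F) :=
  QuadraticMap.linMulLin (LinearMap.proj 0) (LinearMap.proj 5) -
    QuadraticMap.linMulLin (LinearMap.proj 1) (LinearMap.proj 4) +
      QuadraticMap.linMulLin (LinearMap.proj 2) (LinearMap.proj 3)

theorem qf6_apply (x : Fin 6 → F) : qf6 F x = x 0 * x 5 - x 1 * x 4 + x 2 * x 3 := by
  simp [qf6]

theorem pf_Phi (x : Fin 6 → F) : Forms.pf (Phi x) = qf6 F x := by
  simp [qf6_apply, Phi, Forms.pf, Forms.alt4]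

theorem B6_apply (x y : Fin 6 → F) : QuadraticMap.polar (⇑(qf6 F)) x y =
    x 0 * y 5 + x 5 * y 0 - (x 1 * y 4 + x 4 * y 1) + (x 2 * y 3 + x 3 * y 2) := by
  simp [QuadraticMap.polar, qf6_apply]; ring

/-- The action on coordinates. -/
def rhoLin (g : Matrix (Fin 4) (Fin 4) F) : (Fin 6 → F) →ₗ[F] (Fin 6 → F) where
  toFun x := psi (g * Phi x * gᵀ)
  map_add' x y := by rw [Phi_add, Matrix.mul_add, Matrix.add_mul, map_add]
  map_smul' a x := by rw [Phi_smul, Matrix.mul_smul, Matrix.smul_mul, map_smul, RingHom.id_apply]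

theorem Phi_rhoLin (g : Matrix (Fin 4) (Fin 4) F) (x : Fin 6 → F) :
    Phi (rhoLin g x) = g * Phi x * gᵀ := Phi_psi ((isAlt_Phi x).conj g)

variable (F) in
/-- The representation of dimension six. -/
def rho : SL(4, F) →* GL (Fin 6) F :=
  MonoidHom.toHomUnits
    { toFun := fun g => LinearMap.toMatrix' (rhoLin (g : Matrix (Fin 4) (Fin 4) F))
      map_one' := by
        rw [← LinearMap.toMatrix'_id]
        congr 1
        apply LinearMap.ext; intro x
        apply Phi_injective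
        rw [Phi_rhoLin]; simp
      map_mul' := fun g h => by
        rw [← LinearMap.toMatrix'_comp]
        congr 1
        apply LinearMap.ext; intro x
        apply Phi_injective
        rw [LinearMap.comp_apply, Phi_rhoLin, Phi_rhoLin, Phi_rhoLin]
        simp [Matrix.transpose_mul, mul_assoc] }

theorem Phi_act_rho (g : SL(4, F)) (x : Fin 6 → F) :
    Phi (act (rho F g) x) = (g : Matrix (Fin 4) (Fin 4) F) * Phi x * (g : Matrix (Fin 4) (Fin 4) F)ᵀ := by
  rw [← Phi_rhoLin]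
  congr 1
  simp [act_apply, rho, ← Matrix.toLin'_apply]

theorem rho_mem_iso (g : SL(4, F)) : rho F g ∈ isometryGroup F (qf6 F) := by
  rw [Orth.mem_iso]
  intro x
  rw [← pf_Phi, ← pf_Phi x, Phi_act_rho, (Forms.pf_dual_conj g (isAlt_Phi x)).1]

theorem rho_range_le : (rho F).range ≤ Cfsg.Geo.omegaGL (qf6 F) := by
  let r : SL(4, F) →* isometryGroup F (qf6 F) := (rho F).codRestrict _ rho_mem_iso
  have h : ∀ g : SL(4, F), r g ∈ commutator (isometryGroup F (qf6 F)) := by
    have htop : (commutator (isometryGroup F (qf6 F))).comap r = ⊤ := by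
      refine GL.SL_eq_top_of_transvection_mem fun i j hij c => ?_
      obtain ⟨k, hki, hkj⟩ : ∃ k : Fin 4, k ≠ i ∧ k ≠ j := by
        revert hij; revert i j; decide
      have hc : Matrix.SpecialLinearGroup.transvection hij c =
          ⁅Matrix.SpecialLinearGroup.transvection (Ne.symm hki) c,
            Matrix.SpecialLinearGroup.transvection hkj (1 : F)⁆ := by
        rw [commutatorElement_def, eq_mul_inv_iff_mul_eq, eq_mul_inv_iff_mul_eq]
        apply Subtype.ext
        simp [Matrix.SpecialLinearGroup.transvection_coe, Matrix.mul_add, Matrix.add_mul, hij, hki, hkj, hij.symm,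
          hki.symm, hkj.symm]
        abel
      rw [Subgroup.mem_comap, hc, map_commutatorElement]
      exact Subgroup.commutator_mem_commutator (Subgroup.mem_top _) (Subgroup.mem_top _)
    intro g
    exact (htop.ge (Subgroup.mem_top g) : g ∈ _)
  rintro _ ⟨g, rfl⟩
  exact ⟨r g, h g, rfl⟩

/-- The elementary bivector. -/
def wedge (u v : Fin 4 → F) : Fin 6 → F := psi (Matrix.vecMulVec u v - Matrix.vecMulVec v u)

theorem wedge_apply (u v : Fin 4 → F) : wedge u v = ![u 0 * v 1 - v 0 * u 1, u 0 * v 2 - v 0 * u 2,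
    u 0 * v 3 - v 0 * u 3, u 1 * v 2 - v 1 * u 2, u 1 * v 3 - v 1 * u 3, u 2 * v 3 - v 2 * u 3] := by
  simp [wedge, psi, Matrix.vecMulVec_apply]

theorem Phi_wedge (u v : Fin 4 → F) :
    Phi (wedge u v) = Matrix.vecMulVec u v - Matrix.vecMulVec v u := by
  refine Phi_psi ⟨Matrix.vecMulVec u v, ?_⟩
  rw [Matrix.transpose_vecMulVec]

theorem act_rho_wedge (g : SL(4, F)) (u v : Fin 4 → F) : act (rho F g) (wedge u v) =
    wedge ((g : Matrix (Fin 4) (Fin 4) F) *ᵥ u) ((g : Matrix (Fin 4) (Fin 4) F) *ᵥ v) := by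
  apply Phi_injective
  rw [Phi_act_rho, Phi_wedge, Phi_wedge, Matrix.mul_sub, Matrix.sub_mul, Matrix.mul_vecMulVec,
    Matrix.mul_vecMulVec, Matrix.vecMulVec_mul, Matrix.vecMulVec_mul, Matrix.vecMul_transpose,
    Matrix.vecMul_transpose]

theorem exists_wedge {x : Fin 6 → F} (hx : x ≠ 0) (hQ : qf6 F x = 0) : ∃ u v, x = wedge u v := by
  rw [qf6_apply] at hQ
  obtain ⟨m, hm⟩ : ∃ m, x m ≠ 0 := by
    by_contra h; push Not at h; exact hx (funext h)
  fin_cases m <;> simp only [Fin.isValue, Fin.zero_eta, Fin.mk_one, Fin.reduceFinMk] at hm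
  · refine ⟨(x 0)⁻¹ • ![0, x 0, x 1, x 2], ![-x 0, 0, x 3, x 4], ?_⟩
    rw [wedge_apply]; funext l; fin_cases l <;> simp [Pi.smul_apply] <;> field_simp <;>
      first | ring1 | linear_combination hQ | linear_combination -hQ
  · refine ⟨(x 1)⁻¹ • ![0, x 0, x 1, x 2], ![-x 1, -x 3, 0, x 5], ?_⟩
    rw [wedge_apply]; funext l; fin_cases l <;> simp [Pi.smul_apply] <;> field_simp <;>
      first | ring1 | linear_combination hQ | linear_combination -hQ
  · refine ⟨(x 2)⁻¹ • ![0, x 0, x 1, x 2], ![-x 2, -x 4, -x 5, 0], ?_⟩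
    rw [wedge_apply]; funext l; fin_cases l <;> simp [Pi.smul_apply] <;> field_simp <;>
      first | ring1 | linear_combination hQ | linear_combination -hQ
  · refine ⟨(x 3)⁻¹ • ![-x 0, 0, x 3, x 4], ![-x 1, -x 3, 0, x 5], ?_⟩
    rw [wedge_apply]; funext l; fin_cases l <;> simp [Pi.smul_apply] <;> field_simp <;>
      first | ring1 | linear_combination hQ | linear_combination -hQ
  · refine ⟨(x 4)⁻¹ • ![-x 0, 0, x 3, x 4], ![-x 2, -x 4, -x 5, 0], ?_⟩
    rw [wedge_apply]; funext l; fin_cases l <;> simp [Pi.smul_apply] <;> field_simp <;>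
      first | ring1 | linear_combination hQ | linear_combination -hQ
  · refine ⟨(x 5)⁻¹ • ![-x 1, -x 3, 0, x 5], ![-x 2, -x 4, -x 5, 0], ?_⟩
    rw [wedge_apply]; funext l; fin_cases l <;> simp [Pi.smul_apply] <;> field_simp <;>
      first | ring1 | linear_combination hQ | linear_combination -hQ

theorem conj_transvection_apply {i j : Fin 4} (hij : i ≠ j) (t : F) (A : Matrix (Fin 4) (Fin 4) F) (a b : Fin 4) :
    ((Matrix.SpecialLinearGroup.transvection hij t).1 * A * (Matrix.SpecialLinearGroup.transvection hij t).1ᵀ) a b =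
      A a b + (if a = i then t * A j b else 0) +
        (if b = i then t * (A a j + if a = i then t * A j j else 0) else 0) := by
  rw [Matrix.SpecialLinearGroup.transvection_coe, Matrix.transpose_add, Matrix.transpose_one, Matrix.transpose_single,
    Matrix.mul_add, mul_one, Matrix.add_apply]
  have h1 : ∀ c d, ((1 + Matrix.single i j t) * A) c d = A c d + if c = i then t * A j d else 0 := fun c d => by
    rw [Matrix.add_mul, one_mul, Matrix.add_apply]
    by_cases h : c = i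
    · subst h; rw [if_pos rfl, Matrix.single_mul_apply_same]
    · rw [if_neg h, Matrix.single_mul_apply_of_ne _ _ _ _ _ h]
  rw [h1]
  by_cases h : b = i
  · subst h; rw [if_pos rfl, Matrix.mul_single_apply_same, h1]; ring
  · rw [if_neg h, Matrix.mul_single_apply_of_ne _ _ _ _ _ h]

theorem exists_move {x : Fin 6 → F} (hx : x ≠ 0) (hQ : qf6 F x = 0) :
    ∃ g : SL(4, F), act (rho F g) ![1, 0, 0, 0, 0, 0] = x := by
  classical
  obtain ⟨u, v, rfl⟩ := exists_wedge hx hQ
  have hli : LinearIndependent F ![u, v] := by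
    rw [LinearIndependent.pair_iff]
    intro s t h
    by_contra hne
    refine hx (funext fun l => ?_)
    have hi : ∀ i, s * u i + t * v i = 0 := fun i => congrFun h i
    by_cases hs : s = 0
    · have ht : t ≠ 0 := fun ht => hne ⟨hs, ht⟩
      have hv : v = 0 := funext fun i => by
        have := hi i; rw [hs, zero_mul, zero_add] at this; exact (mul_eq_zero.1 this).resolve_left ht
      rw [hv, wedge_apply]; fin_cases l <;> simp
    · have hu : ∀ i, u i = -(s⁻¹ * t) * v i := fun i => by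
        have := hi i; field_simp; linear_combination this
      rw [wedge_apply]; fin_cases l <;> simp [hu] <;> ring
  obtain ⟨w, hw⟩ := exists_linearIndependent_snoc_of_lt_finrank hli (by simp [Module.finrank_pi])
  obtain ⟨z, hz⟩ := exists_linearIndependent_snoc_of_lt_finrank hw (by simp [Module.finrank_pi])
  set b : Fin 4 → Fin 4 → F := Fin.snoc (Fin.snoc ![u, v] w) z with hb
  set G : Matrix (Fin 4) (Fin 4) F := (Matrix.of b)ᵀ with hG
  have hGd : G.det ≠ 0 := by
    rw [hG, Matrix.det_transpose]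
    intro h0
    have hu : IsUnit (Matrix.of b) := Matrix.linearIndependent_rows_iff_isUnit.1 hz
    exact ((Matrix.isUnit_iff_isUnit_det _).1 hu).ne_zero h0
  set d : Fin 4 → F := ![1, 1, 1, G.det⁻¹]
  have hdet : (G * Matrix.diagonal d).det = 1 := by
    rw [Matrix.det_mul, Matrix.det_diagonal, Fin.prod_univ_four]
    simp [d, hGd]
  obtain ⟨g, hg⟩ : ∃ g : SL(4, F), (g : Matrix (Fin 4) (Fin 4) F) = G * Matrix.diagonal d := ⟨⟨_, hdet⟩, rfl⟩
  refine ⟨g, ?_⟩
  rw [show (![1, 0, 0, 0, 0, 0] : Fin 6 → F) = wedge (Pi.single 0 1) (Pi.single 1 1) by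
    rw [wedge_apply]; funext l; fin_cases l <;> simp, act_rho_wedge, hg]
  congr 1 <;>
    · funext i
      simp [Matrix.mulVec_single, hG, hb, d, Matrix.mul_diagonal, Fin.snoc]

theorem omega_le_range [Finite F] (hQ : (QuadraticMap.polarBilin (qf6 F)).Nondegenerate) :
    Cfsg.Geo.omegaGL (qf6 F) ≤ (rho F).range := by
  classical
  rw [Orth.omega_eq_sgGroup hQ (by simp), Orth.sgGroup, Subgroup.closure_le]
  rintro _ ⟨⟨x, w⟩, rfl⟩
  show Orth.sg (qf6 F) x w ∈ (rho F).range
  by_cases hxw : qf6 F x = 0 ∧ QuadraticMap.polar (⇑(qf6 F)) x w = 0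
  swap
  · rw [Orth.sg_of_not _ hxw]; exact one_mem _
  obtain ⟨hx, hxw⟩ := hxw
  rcases eq_or_ne x 0 with rfl | hx0
  · have : Orth.sg (qf6 F) 0 w = 1 := by
      apply gl_ext; intro y
      rw [Orth.act_sg _ hx hxw, act_one, Orth.B_zero_left]; simp
    rw [this]; exact one_mem _
  obtain ⟨g, hg⟩ := exists_move hx0 hx
  set x₀ : Fin 6 → F := ![1, 0, 0, 0, 0, 0] with hx₀
  obtain ⟨w₀, hw₀⟩ : ∃ w₀, w₀ = act (rho F g)⁻¹ w := ⟨_, rfl⟩
  have hgi := rho_mem_iso g
  rw [← hg, show w = act (rho F g) w₀ by rw [hw₀, act_act_inv], ← Orth.conj_sg _ hgi]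
  refine mul_mem (mul_mem ⟨g, rfl⟩ ?_) (inv_mem ⟨g, rfl⟩)
  have hB : QuadraticMap.polar (⇑(qf6 F)) x₀ w₀ = 0 := by
    rw [← Orth.B_act hgi, hg, hw₀, act_act_inv]; exact hxw
  have hQ₀ : qf6 F x₀ = 0 := by rw [qf6_apply]; simp [hx₀]
  have h5 : w₀ 5 = 0 := by
    have := hB; rw [B6_apply] at this; simpa [hx₀] using this
  have root : ∀ (i j : Fin 4) (hij : i ≠ j) (t : F) (w' : Fin 6 → F),
      QuadraticMap.polar (⇑(qf6 F)) x₀ w' = 0 →
      (∀ y, psi ((Matrix.SpecialLinearGroup.transvection hij t).1 * Phi y *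
        (Matrix.SpecialLinearGroup.transvection hij t).1ᵀ) =
        y + QuadraticMap.polar (⇑(qf6 F)) x₀ y • w' -
          (QuadraticMap.polar (⇑(qf6 F)) w' y + qf6 F w' * QuadraticMap.polar (⇑(qf6 F)) x₀ y) • x₀) →
      Orth.sg (qf6 F) x₀ w' ∈ (rho F).range := by
    intro i j hij t w' hw' h
    refine ⟨Matrix.SpecialLinearGroup.transvection hij t, ?_⟩
    apply gl_ext; intro y
    rw [Orth.act_sg _ hQ₀ hw', ← h, ← Phi_rhoLin, psi_Phi]
    simp [act_apply, rho, ← Matrix.toLin'_apply]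
  obtain ⟨a1, ha1⟩ : ∃ a1 : Fin 6 → F, a1 = ![0, w₀ 1, 0, 0, 0, 0] := ⟨_, rfl⟩
  obtain ⟨a2, ha2⟩ : ∃ a2 : Fin 6 → F, a2 = ![0, 0, w₀ 2, 0, 0, 0] := ⟨_, rfl⟩
  obtain ⟨a3, ha3⟩ : ∃ a3 : Fin 6 → F, a3 = ![0, 0, 0, w₀ 3, 0, 0] := ⟨_, rfl⟩
  obtain ⟨a4, ha4⟩ : ∃ a4 : Fin 6 → F, a4 = ![0, 0, 0, 0, w₀ 4, 0] := ⟨_, rfl⟩
  have b1 : QuadraticMap.polar (⇑(qf6 F)) x₀ a1 = 0 := by rw [B6_apply]; simp [hx₀, ha1]
  have b2 : QuadraticMap.polar (⇑(qf6 F)) x₀ a2 = 0 := by rw [B6_apply]; simp [hx₀, ha2]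
  have b3 : QuadraticMap.polar (⇑(qf6 F)) x₀ a3 = 0 := by rw [B6_apply]; simp [hx₀, ha3]
  have b4 : QuadraticMap.polar (⇑(qf6 F)) x₀ a4 = 0 := by rw [B6_apply]; simp [hx₀, ha4]
  have m1 := root 0 3 (by decide) (-(w₀ 1)) a1 b1 fun y => by
    funext l; fin_cases l <;> simp only [psi, LinearMap.coe_mk, AddHom.coe_mk, conj_transvection_apply] <;>
      simp [B6_apply, qf6_apply, hx₀, ha1, Phi, Forms.alt4, Matrix.vecHead, Matrix.vecTail, Function.comp_def] <;> ring1
  have m2 := root 0 2 (by decide) (w₀ 2) a2 b2 fun y => by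
    funext l; fin_cases l <;> simp only [psi, LinearMap.coe_mk, AddHom.coe_mk, conj_transvection_apply] <;>
      simp [B6_apply, qf6_apply, hx₀, ha2, Phi, Forms.alt4, Matrix.vecHead, Matrix.vecTail, Function.comp_def] <;> ring1
  have m3 := root 1 3 (by decide) (-(w₀ 3)) a3 b3 fun y => by
    funext l; fin_cases l <;> simp only [psi, LinearMap.coe_mk, AddHom.coe_mk, conj_transvection_apply] <;>
      simp [B6_apply, qf6_apply, hx₀, ha3, Phi, Forms.alt4, Matrix.vecHead, Matrix.vecTail, Function.comp_def] <;> ring1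
  have m4 := root 1 2 (by decide) (w₀ 4) a4 b4 fun y => by
    funext l; fin_cases l <;> simp only [psi, LinearMap.coe_mk, AddHom.coe_mk, conj_transvection_apply] <;>
      simp [B6_apply, qf6_apply, hx₀, ha4, Phi, Forms.alt4, Matrix.vecHead, Matrix.vecTail, Function.comp_def] <;> ring1
  have hdec : w₀ = a1 + a2 + a3 + a4 + w₀ 0 • x₀ := by
    funext l; fin_cases l <;> simp [hx₀, ha1, ha2, ha3, ha4, h5]
  rw [show Orth.sg (qf6 F) x₀ w₀ = Orth.sg (qf6 F) x₀ (a1 + a2 + a3 + a4 + w₀ 0 • x₀) from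
      congrArg _ hdec, Orth.sg_add_smul _ hQ₀ (by
      rw [Orth.B_add_right, Orth.B_add_right, Orth.B_add_right, b1, b2, b3, b4]; simp),
    ← Orth.sg_add _ hQ₀ (by rw [Orth.B_add_right, Orth.B_add_right, b1, b2, b3]; simp) b4,
    ← Orth.sg_add _ hQ₀ (by rw [Orth.B_add_right, b1, b2]; simp) b3, ← Orth.sg_add _ hQ₀ b1 b2]
  exact mul_mem (mul_mem (mul_mem m1 m2) m3) m4

/-- The image is the derived orthogonal group. -/
theorem rho_range [Finite F] (hQ : (QuadraticMap.polarBilin (qf6 F)).Nondegenerate) :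
    (rho F).range = Cfsg.Geo.omegaGL (qf6 F) :=
  le_antisymm rho_range_le (omega_le_range hQ)

end Cfsg.Agent.MaxCl.SLFour
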