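/-
The standard group of symplectic type in dimension four goes to the sign changes of a frame of six lines under
the exterior square, so its normaliser is maximal.
-/
import Cfsg.Agent.Lib.MaxCl.SLFour.Rho
import Cfsg.Agent.Lib.MaxCl.Mono.SixMain

set_option autoImplicit false
set_option linter.unusedSectionVars false

namespace Cfsg.Agent.MaxCl.SLFour

open scoped MatrixGroups Matrix

variable {F : Type*} [Field F] {j : F}

/-- The frame. -/
def fe (j : F) : Fin 6 → Fin 6 → F :=
  ![![1, 0, 0, 0, 0, 1], ![j, 0, 0, 0, 0, -j], ![0, j, 0, 0, j, 0], ![0, 1, 0, 0, -1, 0], ![0, 0, 1, 1, 0, 0],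
    ![0, 0, j, -j, 0, 0]]

theorem fe_frame (hj : j * j = -1) (h2 : (2 : F) ≠ 0) : Mono.Frame (qf6 F) (fe j) 1 := by
  refine ⟨fun i => ?_, one_ne_zero, h2, fun i k hik => ?_, ?_⟩
  · fin_cases i <;> simp [qf6_apply, fe] <;> linear_combination -hj
  · fin_cases i <;> fin_cases k <;> first | exact absurd rfl hik | (simp [B6_apply, fe] <;> ring1)
  · rw [eq_top_iff]
    intro x _
    rw [Submodule.mem_span_range_iff_exists_fun]
    refine ⟨![(x 0 + x 5) / 2, -j * (x 0 - x 5) / 2, -j * (x 1 + x 4) / 2, (x 1 - x 4) / 2, (x 2 + x 3) / 2,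
      -j * (x 2 - x 3) / 2], ?_⟩
    have hj2 : j ^ 2 = -1 := by rw [pow_two, hj]
    funext l
    fin_cases l <;> simp [Fin.sum_univ_six, fe] <;> field_simp <;> ring_nf <;> simp [hj2] <;> ring

/-- The five matrices. -/
def genMat (j : F) : Fin 5 → Matrix (Fin 4) (Fin 4) F :=
  ![j • 1, Matrix.diagonal ![1, -1, 1, -1], Matrix.diagonal ![1, 1, -1, -1],
    !![0, 1, 0, 0; 1, 0, 0, 0; 0, 0, 0, 1; 0, 0, 1, 0], !![0, 0, 1, 0; 0, 0, 0, 1; 1, 0, 0, 0; 0, 1, 0, 0]]

theorem det_genMat (hj : j * j = -1) (k : Fin 5) : (genMat j k).det = 1 := by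
  fin_cases k
  · simp [genMat]; linear_combination (j * j - 1) * hj
  all_goals simp [genMat, Matrix.det_succ_row_zero, Fin.sum_univ_succ, Fin.succAbove, Fin.prod_univ_four]

/-- The generators. -/
def gen (hj : j * j = -1) (k : Fin 5) : SL(4, F) := ⟨genMat j k, det_genMat hj k⟩

/-- The lines negated by the generators. -/
def negSet : Fin 5 → Finset (Fin 6) := ![Finset.univ, {0, 1, 4, 5}, {2, 3, 4, 5}, {0, 1, 3, 5}, {1, 2, 3, 4}]

theorem negSet_sep : ∀ i i' : Fin 6, (∀ k : Fin 5, i ∈ negSet k ↔ i' ∈ negSet k) → i = i' := by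
  decide

theorem negSet_span : ∀ S : Finset (Fin 6), Even S.card → ∃ b : Bool × Bool × Bool × Bool × Bool,
    S = symmDiff (if b.1 then negSet 0 else ∅) (symmDiff (if b.2.1 then negSet 1 else ∅)
      (symmDiff (if b.2.2.1 then negSet 2 else ∅) (symmDiff (if b.2.2.2.1 then negSet 3 else ∅)
        (if b.2.2.2.2 then negSet 4 else ∅)))) := by
  decide +kernel

theorem negSet_even : ∀ k : Fin 5, Even (negSet k).card := by decide

/-- The group. -/
def stdGroup (hj : j * j = -1) : Subgroup SL(4, F) := Subgroup.closure (Set.range (gen hj))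

/-- The only matrices commuting with the generators are scalar. -/
theorem scalar_of_commute (h2 : (2 : F) ≠ 0) {A : Matrix (Fin 4) (Fin 4) F}
    (h : ∀ k : Fin 5, k ≠ 0 → A * genMat j k = genMat j k * A) : A = A 0 0 • 1 := by
  have z : ∀ {x : F}, x = -x → x = 0 := fun {x} e =>
    (mul_eq_zero.1 (show (2 : F) * x = 0 by linear_combination e)).resolve_left h2
  have e : ∀ k : Fin 5, k ≠ 0 → ∀ a b, (A * genMat j k) a b = (genMat j k * A) a b := fun k hk a b => by rw [h k hk]
  have d1 := e 1 (by decide); have d2 := e 2 (by decide)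
  have s1 := e 3 (by decide); have s2 := e 4 (by decide)
  simp only [genMat, Matrix.cons_val_one, Matrix.cons_val_zero, Matrix.cons_val, Matrix.mul_diagonal,
    Matrix.diagonal_mul] at d1 d2
  have a01 := d1 0 1; have a03 := d1 0 3; have a10 := d1 1 0; have a12 := d1 1 2
  have a21 := d1 2 1; have a23 := d1 2 3; have a30 := d1 3 0; have a32 := d1 3 2
  have a02 := d2 0 2; have a20 := d2 2 0; have a13 := d2 1 3; have a31 := d2 3 1
  have b1 := s1 0 1; have b2 := s2 0 2; have b3 := s2 1 3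
  simp [genMat, Matrix.mul_apply, Fin.sum_univ_four] at a01 a03 a10 a12 a21 a23 a30 a32 a02 a20 a13 a31 b1 b2 b3
  ext a b
  fin_cases a <;> fin_cases b <;> simp <;>
    first
      | exact z a01 | exact z a01.symm | exact z a03 | exact z a03.symm | exact z a10 | exact z a10.symm
      | exact z a12 | exact z a12.symm | exact z a21 | exact z a21.symm | exact z a23 | exact z a23.symm
      | exact z a30 | exact z a30.symm | exact z a32 | exact z a32.symm | exact z a02 | exact z a02.symm
      | exact z a20 | exact z a20.symm | exact z a13 | exact z a13.symm | exact z a31 | exact z a31.symm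
      | linear_combination b1 | linear_combination -b1 | linear_combination b2 | linear_combination -b2
      | linear_combination b1 + b3 | linear_combination b1 - b3 | linear_combination -b1 + b3
      | linear_combination -b1 - b3

section Normalizer

variable [Finite F] (hj : j * j = -1) (h2 : (2 : F) ≠ 0)
include hj h2

local notation "fl" => Mono.flip (fe_frame hj h2) Mono.Six.five_le_six

theorem rho_gen (k : Fin 5) : rho F (gen hj k) = fl (negSet k) := by
  refine (fe_frame hj h2).gl_ext fun l => ?_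
  rw [Mono.act_flip]
  apply Phi_injective
  rw [Phi_act_rho, show ((gen hj k : SL(4, F)) : Matrix (Fin 4) (Fin 4) F) = genMat j k from rfl]
  fin_cases k <;> fin_cases l <;> simp [negSet] <;> ext a b <;> fin_cases a <;> fin_cases b <;>
    simp [genMat, Phi, fe, Forms.alt4, Matrix.mul_apply, Fin.sum_univ_four, hj] <;> linear_combination j * hj

theorem rho_mem_flips {x : SL(4, F)} (hx : x ∈ stdGroup hj) :
    ∃ S : Finset (Fin 6), Even S.card ∧ rho F x = fl S := by
  have empty : (1 : GL (Fin 6) F) = fl ∅ := (fe_frame hj h2).gl_ext fun i => by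
    rw [Mono.act_flip, if_neg (Finset.notMem_empty i), act_one]
  induction hx using Subgroup.closure_induction with
  | mem x hx => obtain ⟨k, rfl⟩ := hx; exact ⟨_, negSet_even k, rho_gen hj h2 k⟩
  | one => exact ⟨∅, by simp, by rw [map_one, empty]⟩
  | mul a b _ _ ha hb =>
    obtain ⟨S, hS, eS⟩ := ha
    obtain ⟨T, hT, eT⟩ := hb
    refine ⟨symmDiff S T, ?_, by rw [map_mul, eS, eT, Mono.flip_mul]⟩
    have h : (symmDiff S T).card = (S \ T).card + (T \ S).card :=
      Finset.card_union_of_disjoint disjoint_sdiff_sdiff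
    have h1 := Finset.card_sdiff_add_card_inter S T
    have h3 := Finset.card_sdiff_add_card_inter T S
    rw [Finset.inter_comm T S] at h3
    rw [Nat.even_iff] at hS hT ⊢
    omega
  | inv a _ ha =>
    obtain ⟨S, hS, eS⟩ := ha
    exact ⟨S, hS, by rw [map_inv, eS, Mono.flip_inv]⟩

theorem exists_rho_eq {S : Finset (Fin 6)} (hS : Even S.card) :
    ∃ x ∈ stdGroup hj, rho F x = fl S := by
  obtain ⟨⟨b0, b1, b2, b3, b4⟩, hb⟩ := negSet_span S hS
  have one : ∀ (b : Bool) (k : Fin 5), ∃ x ∈ stdGroup hj, rho F x = fl (if b then negSet k else ∅) := fun b k => by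
    cases b
    · refine ⟨1, one_mem _, ?_⟩
      rw [map_one]
      exact (fe_frame hj h2).gl_ext fun i => by rw [Mono.act_flip, if_neg (by simp), act_one]
    · exact ⟨gen hj k, Subgroup.subset_closure ⟨k, rfl⟩, rho_gen hj h2 k⟩
  obtain ⟨x0, m0, e0⟩ := one b0 0; obtain ⟨x1, m1, e1⟩ := one b1 1; obtain ⟨x2, m2, e2⟩ := one b2 2
  obtain ⟨x3, m3, e3⟩ := one b3 3; obtain ⟨x4, m4, e4⟩ := one b4 4
  refine ⟨x0 * (x1 * (x2 * (x3 * x4))), mul_mem m0 (mul_mem m1 (mul_mem m2 (mul_mem m3 m4))), ?_⟩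
  rw [map_mul, map_mul, map_mul, map_mul, e0, e1, e2, e3, e4, Mono.flip_mul, Mono.flip_mul, Mono.flip_mul,
    Mono.flip_mul, hb]

theorem ker_cases {g : SL(4, F)} (hg : rho F g = 1) : g = 1 ∨ g = gen hj 0 * gen hj 0 := by
  have hj0 : j ≠ 0 := fun h => one_ne_zero (α := F) (by rw [h, zero_mul] at hj; linear_combination hj)
  set G : Matrix (Fin 4) (Fin 4) F := (g : Matrix (Fin 4) (Fin 4) F)
  have hA : ∀ x, G * Phi x * Gᵀ = Phi x := fun x => by rw [← Phi_act_rho, hg, act_one]
  have hC : ∀ x, Gᵀ * Forms.dual4 (Phi x) * G = Forms.dual4 (Phi x) := fun x => by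
    have := (Forms.pf_dual_conj g (isAlt_Phi x)).2
    rwa [hA] at this
  have hcomm : ∀ x y, G * (Phi x * Forms.dual4 (Phi y)) = Phi x * Forms.dual4 (Phi y) * G := fun x y => by
    calc G * (Phi x * Forms.dual4 (Phi y)) = G * Phi x * (Gᵀ * Forms.dual4 (Phi y) * G) := by rw [hC, mul_assoc]
      _ = G * Phi x * Gᵀ * (Forms.dual4 (Phi y) * G) := by simp only [mul_assoc]
      _ = Phi x * Forms.dual4 (Phi y) * G := by rw [hA, mul_assoc]
  have hprod : ∀ k : Fin 5, k ≠ 0 → ∃ r : F, r ≠ 0 ∧ ∃ x y, Phi x * Forms.dual4 (Phi y) = r • genMat j k := by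
    intro k hk
    fin_cases k
    · exact absurd rfl hk
    · refine ⟨j, hj0, fe j 2, fe j 3, ?_⟩
      ext a b; fin_cases a <;> fin_cases b <;>
        simp [genMat, Phi, fe, Forms.alt4, Forms.dual4, Matrix.mul_apply, Fin.sum_univ_four]
    · refine ⟨-j, neg_ne_zero.2 hj0, fe j 0, fe j 1, ?_⟩
      ext a b; fin_cases a <;> fin_cases b <;>
        simp [genMat, Phi, fe, Forms.alt4, Forms.dual4, Matrix.mul_apply, Fin.sum_univ_four]
    · refine ⟨j, hj0, fe j 2, fe j 4, ?_⟩
      ext a b; fin_cases a <;> fin_cases b <;>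
        simp [genMat, Phi, fe, Forms.alt4, Forms.dual4, Matrix.mul_apply, Fin.sum_univ_four]
    · refine ⟨-j, neg_ne_zero.2 hj0, fe j 0, fe j 5, ?_⟩
      ext a b; fin_cases a <;> fin_cases b <;>
        simp [genMat, Phi, fe, Forms.alt4, Forms.dual4, Matrix.mul_apply, Fin.sum_univ_four]
  have hs : G = G 0 0 • 1 := scalar_of_commute (j := j) h2 fun k hk => by
    obtain ⟨r, hr, x, y, hxy⟩ := hprod k hk
    have := hcomm x y
    rw [hxy, Matrix.mul_smul, Matrix.smul_mul] at this
    exact smul_right_injective _ hr this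
  have hc : G 0 0 * G 0 0 = 1 := by
    have h := congrFun (congrFun (hA (fe j 0)) 0) 1
    rw [hs, Matrix.smul_mul, one_mul, Matrix.transpose_smul, Matrix.transpose_one, Matrix.mul_smul, mul_one,
      smul_smul] at h
    simpa [Phi, fe, Forms.alt4] using h
  rcases mul_self_eq_one_iff.1 hc with h | h
  · exact Or.inl (Subtype.ext (by show G = 1; rw [hs, h, one_smul]))
  · refine Or.inr (Subtype.ext ?_)
    show G = genMat j 0 * genMat j 0
    rw [hs, h]; simp [genMat, smul_smul, hj]

theorem ker_le {g : SL(4, F)} (hg : rho F g = 1) : g ∈ stdGroup hj := by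
  rcases ker_cases hj h2 hg with rfl | rfl
  · exact one_mem _
  · exact mul_mem (Subgroup.subset_closure ⟨0, rfl⟩) (Subgroup.subset_closure ⟨0, rfl⟩)

theorem mem_normalizer_iff {g : SL(4, F)} :
    g ∈ Subgroup.normalizer (stdGroup hj : Set SL(4, F)) ↔ rho F g ∈ Mono.monoGroup (fe j) := by
  have hE := fe_frame hj h2
  refine ⟨fun hg => Mono.isMono_of_forall hE fun l => ?_, fun hg => ?_⟩
  · set v := act (rho F g) (fe j l)
    have key : ∀ k, ∃ ε : F, (ε = 1 ∨ ε = -1) ∧ act (fl (negSet k)) v = ε • v := fun k => by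
      have hx : g⁻¹ * gen hj k * g ∈ stdGroup hj := by
        have := (Subgroup.mem_normalizer_iff.1 (inv_mem hg) _).1
          (Subgroup.subset_closure ⟨k, rfl⟩ : gen hj k ∈ stdGroup hj)
        rwa [inv_inv] at this
      obtain ⟨S, -, hS⟩ := rho_mem_flips hj h2 hx
      refine ⟨if l ∈ S then -1 else 1, by split_ifs <;> simp, ?_⟩
      rw [← rho_gen hj h2 k, ← act_mul, show rho F (gen hj k) * rho F g = rho F g * fl S by
        rw [← hS, ← map_mul, ← map_mul]; congr 1; group, act_mul, Mono.act_flip]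
      split_ifs <;> simp [v, map_neg]
    obtain ⟨i, hi⟩ : ∃ i, Mono.co (qf6 F) (fe j) 1 v i ≠ 0 := by
      by_contra h
      push Not at h
      exact hE.ne_zero l (act_injective (rho F g) ((hE.ext_co fun i => by rw [h i, Mono.co_zero]).trans
        (map_zero _).symm))
    refine ⟨i, Mono.co (qf6 F) (fe j) 1 v i, hE.ext_co fun i' => ?_⟩
    rw [Mono.co_smul, hE.co_e]
    by_cases hii : i' = i
    · subst hii; simp [v]
    rw [if_neg hii, mul_zero]
    by_contra hne
    refine hii (negSet_sep _ _ fun k => ?_)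
    obtain ⟨ε, hε, hk⟩ := key k
    have e : ∀ o, Mono.co (qf6 F) (fe j) 1 v o ≠ 0 → (o ∈ negSet k ↔ ε = -1) := fun o ho => by
      have := congrArg (Mono.co (qf6 F) (fe j) 1 · o) hk
      simp only [Mono.co_flip, Mono.co_smul] at this
      have h11 : (1 : F) ≠ -1 := fun h => h2 (by linear_combination h)
      by_cases hok : o ∈ negSet k
      · rw [if_pos hok] at this
        exact iff_of_true hok (mul_right_cancel₀ ho (by linear_combination -this))
      · rw [if_neg hok] at this
        refine iff_of_false hok fun h => ?_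
        rw [h] at this
        exact ho ((mul_eq_zero.1 (show (2 : F) * Mono.co (qf6 F) (fe j) 1 v o = 0 by
          linear_combination this)).resolve_left h2)
    exact (e i' hne).trans (e i hi).symm
  · obtain ⟨σ, hσ⟩ := hg
    have fwd : ∀ {g : SL(4, F)} {σ : Equiv.Perm (Fin 6)},
        (∀ i, ∃ s : F, s ≠ 0 ∧ act (rho F g) (fe j i) = s • fe j (σ i)) →
        ∀ x ∈ stdGroup hj, g * x * g⁻¹ ∈ stdGroup hj := fun {g σ} hσ x hx => by
      obtain ⟨S, hS, eS⟩ := rho_mem_flips hj h2 hx
      obtain ⟨y, hy, ey⟩ := exists_rho_eq hj h2 (S := S.map σ.toEmbedding) (by rwa [Finset.card_map])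
      have : g * x * g⁻¹ * y⁻¹ ∈ stdGroup hj := ker_le hj h2 (by
        rw [map_mul, map_mul, map_mul, map_inv, map_inv, ey, eS, Mono.conj_flip hE _ hσ, mul_inv_cancel])
      have := mul_mem this hy
      rwa [inv_mul_cancel_right] at this
    obtain ⟨σ', hσ'⟩ : (rho F g⁻¹) ∈ Mono.monoGroup (fe j) := by
      rw [map_inv]; exact inv_mem ⟨σ, hσ⟩
    refine Subgroup.mem_normalizer_iff.2 fun x => ⟨fwd hσ x, fun hx => ?_⟩
    have := fwd hσ' _ hx
    rwa [inv_inv, show g⁻¹ * (g * x * g⁻¹) * g = x by group] at this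

/-- The normaliser of the standard group is maximal. -/
theorem std_maximal (hp : (Nat.card F).Prime) :
    Cfsg.Geo.IsMaximalIn (Cfsg.Geo.specialLinear (Fin 4) F)
      (Cfsg.Geo.subgroupNormalizer ((stdGroup hj).map Matrix.SpecialLinearGroup.toGL) ⊓
        Cfsg.Geo.specialLinear (Fin 4) F) := by
  have hE := fe_frame hj h2
  set f : SL(4, F) →* GL (Fin 4) F := Matrix.SpecialLinearGroup.toGL
  have hf : Function.Injective f := Matrix.SpecialLinearGroup.toGL_injective
  have hSL : ∀ g : GL (Fin 4) F, g ∈ Cfsg.Geo.specialLinear (Fin 4) F ↔ ∃ x, f x = g := fun g => by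
    constructor
    · intro hg
      have hdet : (g : Matrix (Fin 4) (Fin 4) F).det = 1 := congrArg Units.val (MonoidHom.mem_ker.1 hg)
      exact ⟨⟨_, hdet⟩, Units.ext rfl⟩
    · rintro ⟨x, rfl⟩; exact MonoidHom.mem_ker.2 (Units.ext x.2)
  have hiff : ∀ x : SL(4, F), f x ∈ Cfsg.Geo.subgroupNormalizer ((stdGroup hj).map f) ↔
      rho F x ∈ Mono.monoGroup (fe j) := fun x => by
    rw [← mem_normalizer_iff hj h2, Cfsg.Geo.subgroupNormalizer, Subgroup.mem_normalizer_iff,
      Subgroup.mem_normalizer_iff]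
    constructor
    · intro h y
      have := h (f y)
      simp only [← map_mul, ← map_inv, SetLike.mem_coe, Subgroup.mem_map_iff_mem hf] at this ⊢
      exact this
    · intro h y
      simp only [SetLike.mem_coe, Subgroup.mem_map] at h ⊢
      constructor
      · rintro ⟨z, hz, rfl⟩; exact ⟨_, (h z).1 hz, by rw [map_mul, map_mul, map_inv]⟩
      · rintro ⟨w, hw, he⟩
        refine ⟨x⁻¹ * w * x, ?_, by rw [map_mul, map_mul, map_inv, he]; group⟩
        rw [h, show x * (x⁻¹ * w * x) * x⁻¹ = w by group]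
        exact hw
  have hmax := Mono.maximal_of_frame_six hE hp
  have hrange := rho_range (F := F) hE.nondegenerate
  refine ⟨lt_of_le_of_ne inf_le_right fun heq => ?_, fun M hHM hMS => ?_⟩
  · refine hmax.1.not_ge fun w hw => ?_
    obtain ⟨g, rfl⟩ := hrange.ge hw
    exact ⟨(hiff g).1 ((inf_eq_right.1 heq) ((hSL _).2 ⟨g, rfl⟩)), hw⟩
  · let M' := (M.comap f).map (rho F)
    have h1 : Mono.monoGroup (fe j) ⊓ Cfsg.Geo.omegaGL (qf6 F) ≤ M' := by
      rintro w ⟨hw, hwΩ⟩
      obtain ⟨g, rfl⟩ := hrange.ge hwΩ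
      exact ⟨g, hHM ⟨(hiff g).2 hw, (hSL _).2 ⟨g, rfl⟩⟩, rfl⟩
    have h2' : M' ≤ Cfsg.Geo.omegaGL (qf6 F) := by
      rintro _ ⟨g, -, rfl⟩; exact hrange.le ⟨g, rfl⟩
    rcases hmax.2 M' h1 h2' with h | h
    · left
      refine le_antisymm (fun g hg => ⟨?_, hMS hg⟩) hHM
      obtain ⟨x, rfl⟩ := (hSL g).1 (hMS hg)
      exact (hiff x).2 (h.le ⟨x, hg, rfl⟩).1
    · right
      refine le_antisymm hMS fun g hg => ?_
      obtain ⟨x, rfl⟩ := (hSL g).1 hg
      obtain ⟨y, hy, he⟩ := h.ge (hrange.le ⟨x, rfl⟩)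
      have hk : f (y⁻¹ * x) ∈ M := hHM ⟨(hiff _).2 (by
        rw [map_mul, map_inv, he, inv_mul_cancel]; exact one_mem _), (hSL _).2 ⟨_, rfl⟩⟩
      have := M.mul_mem hy hk
      rwa [← map_mul, mul_inv_cancel_left] at this

end Normalizer

end Cfsg.Agent.MaxCl.SLFour
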