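/-
An absolutely irreducible group of symplectic type with centre of order four in dimension four is conjugate to
the standard one, so its normaliser is maximal.
-/
import Cfsg.Agent.Lib.MaxCl.SLFour.Std
import Cfsg.Agent.Lib.TI.SymplecticFour

set_option autoImplicit false
set_option linter.unusedSectionVars false

namespace Cfsg.Agent.MaxCl.SLFour

open scoped MatrixGroups Matrix commutatorElement

variable {F : Type*} [Field F]

local notation "M4" => Matrix (Fin 4) (Fin 4) F

/-- What is used of the group. -/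
structure Data (R : Subgroup (GL (Fin 4) F)) (j : F) : Prop where
  jj : j * j = -1
  two : (2 : F) ≠ 0
  irr : Cfsg.Geo.ActsIrreducibly (Cfsg.Geo.matrixSet R)
  scal : ∀ x ∈ R, ∀ c : F, (x : M4) = c • 1 → c ^ 4 = 1
  hasJ : ∃ x ∈ R, (x : M4) = j • 1
  central : ∀ x ∈ R, (∀ y ∈ R, (x : M4) * (y : M4) = (y : M4) * x) → ∃ c : F, (x : M4) = c • 1
  comm : ∀ x ∈ R, ∀ y ∈ R, (x : M4) * (y : M4) = (y : M4) * x ∨ (x : M4) * (y : M4) = -((y : M4) * x)
  sq : ∀ x ∈ R, (x : M4) * x = 1 ∨ (x : M4) * x = -1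

theorem data_of_group [Finite F] {R : Subgroup (GL (Fin 4) F)} (h2 : (2 : F) ≠ 0)
    (hS : Cfsg.Geo.IsSymplecticTypeGroup 2 R) (habs : Cfsg.Geo.ActsAbsolutelyIrreducibly (Cfsg.Geo.matrixSet R))
    (hZ : Nat.card (Subgroup.center R) = 4) : ∃ j, Data R j := by
  classical
  have hcen : ∀ x : R, x ∈ Subgroup.center R → ∃ c : F, ((x : GL (Fin 4) F) : M4) = c • 1 := fun x hx =>
    habs.2 _ (by
      rintro _ ⟨y, hy, rfl⟩
      exact (congrArg (fun g : R => ((g : GL (Fin 4) F) : M4)) (Subgroup.mem_center_iff.1 hx ⟨y, hy⟩)).symm)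
  choose sc hsc using hcen
  have hval : Function.Injective fun x : Subgroup.center R => sc x.1 x.2 := fun x y h => by
    refine Subtype.ext (Subtype.ext (Units.ext ?_))
    rw [hsc x.1 x.2, hsc y.1 y.2]; congr 1
  have h4 : ∀ x : R, x ^ 4 = 1 := fun x => by
    have h := Monoid.pow_exponent_eq_one x
    rwa [hS.exponent_eq] at h
  have scal : ∀ x ∈ R, ∀ c : F, (x : M4) = c • 1 → c ^ 4 = 1 := fun x hx c hc => by
    have := congrArg (fun g : R => ((g : GL (Fin 4) F) : M4)) (h4 ⟨x, hx⟩)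
    simp only [SubmonoidClass.mk_pow, Units.val_pow_eq_pow_val, hc, smul_pow, one_pow, OneMemClass.coe_one,
      Units.val_one] at this
    have := congrFun (congrFun this 0) 0
    simpa using this
  -- a square root of minus one among the scalars
  obtain ⟨z, hz⟩ : ∃ z : Subgroup.center R, sc z.1 z.2 ≠ 1 ∧ sc z.1 z.2 ≠ -1 := by
    by_contra h
    push Not at h
    haveI : Finite (Subgroup.center R) := Nat.finite_of_card_ne_zero (by rw [hZ]; decide)
    haveI := Fintype.ofFinite (Subgroup.center R)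
    have := Finset.card_le_card_of_injOn (s := Finset.univ) (t := ({1, -1} : Finset F))
      (fun x : Subgroup.center R => sc x.1 x.2) (fun x _ => by
        by_cases hx : sc x.1 x.2 = 1
        · simp [hx]
        · simp [h x hx]) hval.injOn
    have h2' := Finset.card_le_two (a := (1 : F)) (b := -1)
    rw [Finset.card_univ, ← Nat.card_eq_fintype_card, hZ] at this
    omega
  obtain ⟨j, hjdef⟩ : ∃ j, j = sc z.1 z.2 := ⟨_, rfl⟩
  rw [← hjdef] at hz
  have hzj : ((z : R) : GL (Fin 4) F).val = j • 1 := hjdef ▸ hsc z.1 z.2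
  have hj4 := scal _ z.1.2 j hzj
  have hj : j * j = -1 := by
    rcases mul_self_eq_one_iff.1 (show j * j * (j * j) = 1 by linear_combination hj4) with h | h
    · rcases mul_self_eq_one_iff.1 h with h' | h'
      · exact absurd h' hz.1
      · exact absurd h' hz.2
    · exact h
  set zz : R := (z : R) * z with hzzdef
  have hzzv : ((zz : GL (Fin 4) F) : M4) = -1 := by
    rw [hzzdef, Subgroup.coe_mul, Units.val_mul, hzj, Matrix.smul_mul, one_mul, smul_smul, hj, neg_one_smul]
  have hzz2 : zz * zz = 1 := Subtype.ext (Units.ext (by simp [hzzv]))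
  have hzz1 : zz ≠ 1 := fun h => h2 (by
    have := congrFun (congrFun (congrArg (fun g : R => ((g : GL (Fin 4) F) : M4)) h) 0) 0
    simp [hzzv] at this
    linear_combination -this)
  obtain ⟨hcomm, hsq⟩ := TI.commutator_and_square_mem
    ⟨hS.pGroup, hS.cyclic_of_characteristic⟩ h4 (mul_mem z.2 z.2) hzz2 hzz1
  refine ⟨j, hj, h2, habs.1, scal, ⟨_, z.1.2, hzj⟩, fun x hx h => habs.2 _ (by
    rintro _ ⟨y, hy, rfl⟩; exact h y hy), fun x hx y hy => ?_, fun x hx => ?_⟩
  · rcases hcomm ⟨x, hx⟩ ⟨y, hy⟩ with h | h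
    · exact Or.inl (congrArg (fun g : R => ((g : GL (Fin 4) F) : M4)) (commutatorElement_eq_one_iff_mul_comm.1 h))
    · have h' : (⟨x, hx⟩ : R) * ⟨y, hy⟩ = zz * (⟨y, hy⟩ * ⟨x, hx⟩) := by
        rw [show zz = ⁅(⟨x, hx⟩ : R), ⟨y, hy⟩⁆ from h.symm, commutatorElement_def]; group
      have h'' := congrArg (fun g : R => ((g : GL (Fin 4) F) : M4)) h'
      simp only [Subgroup.coe_mul, Units.val_mul, hzzv, neg_one_mul] at h''
      exact Or.inr h''
  · rcases hsq ⟨x, hx⟩ with h | h
    · exact Or.inl (by simpa using congrArg (fun g : R => ((g : GL (Fin 4) F) : M4)) h)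
    · have h'' := congrArg (fun g : R => ((g : GL (Fin 4) F) : M4)) h
      simp only [Subgroup.coe_mul, Units.val_mul] at h''
      exact Or.inr (h''.trans hzzv)

theorem data_of [Fintype F] {R : Subgroup (GL (Fin 4) F)} {p : ℕ} (hp : p.Prime) (hcard : Fintype.card F = p)
    (hp4 : p % 4 = 1) (hR : Cfsg.Geo.IsLinearSymplecticTypeData 2 R) : ∃ j, Data R j := by
  classical
  refine data_of_group ?_ hR.symplecticType hR.absIrred ?_
  · exact Ring.two_ne_zero fun hc => by
      haveI := FiniteField.even_card_of_char_two hc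
      omega
  · obtain ⟨q, e, -, -, h | h | h⟩ := hR.field
    · exact absurd h.1 (by decide)
    · exact h.2.2.1
    · simp at h

variable {R : Subgroup (GL (Fin 4) F)} {j : F} (hR : Data R j)
include hR

/-- An involution in `R` outside the scalars, with a partner. -/
theorem exists_pair {x : GL (Fin 4) F} (hx : x ∈ R) (hns : ∀ c : F, (x : M4) ≠ c • 1) :
    ∃ r ∈ R, ∃ s ∈ R, (r : M4) * r = 1 ∧ (s : M4) * s = 1 ∧ (r : M4) * s = -((s : M4) * r) ∧
      (∃ c : F, (r : M4) = c • (x : M4)) := by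
  obtain ⟨k, hk, hkj⟩ := hR.hasJ
  have norm : ∀ y ∈ R, ∃ r ∈ R, (r : M4) * r = 1 ∧ ∃ c : F, (r : M4) = c • (y : M4) := fun y hy => by
    rcases hR.sq y hy with h | h
    · exact ⟨y, hy, h, 1, (one_smul _ _).symm⟩
    · refine ⟨k * y, mul_mem hk hy, ?_, j, by rw [Units.val_mul, hkj, Matrix.smul_mul, one_mul]⟩
      rw [Units.val_mul, hkj, Matrix.smul_mul, one_mul, Matrix.smul_mul, Matrix.mul_smul, h, smul_smul, hR.jj]
      simp
  obtain ⟨r, hr, hr1, c, hc⟩ := norm x hx
  obtain ⟨y, hy, hxy⟩ : ∃ y ∈ R, (x : M4) * y = -((y : M4) * x) := by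
    by_contra h
    push Not at h
    obtain ⟨c, hc⟩ := hR.central x hx fun y hy => (hR.comm x hx y hy).resolve_right (h y hy)
    exact hns c hc
  obtain ⟨s, hs, hs1, d, hd⟩ := norm y hy
  refine ⟨r, hr, s, hs, hr1, hs1, ?_, c, hc⟩
  rw [hc, hd, Matrix.smul_mul, Matrix.mul_smul, hxy, Matrix.smul_mul, Matrix.mul_smul]
  module

omit hR in
theorem cancel_anti {A B : M4} (hB : B * B = 1) (h : A * B = -(B * A)) : B * A * B = -A := by
  rw [mul_assoc, h, mul_neg, ← mul_assoc, hB, one_mul]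

/-- The group is conjugate to the standard one. -/
theorem exists_conj [Finite F] : ∃ P : GL (Fin 4) F,
    R = ((stdGroup hR.jj).map Matrix.SpecialLinearGroup.toGL).map (MulAut.conj P).toMonoidHom := by
  classical
  have h2 := hR.two
  obtain ⟨k, hk, hkj⟩ := hR.hasJ
  have z : ∀ {v : Fin 4 → F}, v = -v → v = 0 := fun {v} e => funext fun i =>
    (mul_eq_zero.1 (show (2 : F) * v i = 0 by
      linear_combination (congrFun e i).trans (Pi.neg_apply v i))).resolve_left h2
  have nz : ∀ {x : GL (Fin 4) F}, (x : M4) ≠ 0 := fun {x} h => by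
    have := x.mul_inv; rw [h, zero_mul] at this; exact zero_ne_one this
  have anti_ne : ∀ {x y : GL (Fin 4) F} {c : F}, (x : M4) * y = -((y : M4) * x) → (x : M4) ≠ c • 1 := by
    intro x y c h hc
    rw [hc, Matrix.smul_mul, one_mul, Matrix.mul_smul, mul_one] at h
    have : ((2 : F) * c) • (y : M4) = 0 := by linear_combination (norm := module) h
    rcases smul_eq_zero.1 this with h' | h'
    · exact nz (x := x) (by rw [hc, (mul_eq_zero.1 h').resolve_left h2, zero_smul])
    · exact nz h'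
  -- a non-scalar member
  obtain ⟨x₀, hx₀, hns₀⟩ : ∃ x ∈ R, ∀ c : F, ((x : GL (Fin 4) F) : M4) ≠ c • 1 := by
    by_contra h
    push Not at h
    rcases hR.irr (F ∙ Pi.single 0 1) (by
      rintro _ ⟨x, hx, rfl⟩
      obtain ⟨c, hc⟩ := h x hx
      rw [Submodule.map_span, Set.image_singleton, Submodule.span_singleton_le_iff_mem, Submodule.mem_span_singleton]
      exact ⟨c, by simp [hc, Matrix.smul_mulVec]⟩) with h | h
    · rw [Submodule.span_singleton_eq_bot] at h
      exact one_ne_zero (α := F) (by simpa using congrFun h 0)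
    · have := congrArg (fun W : Submodule F (Fin 4 → F) => Module.finrank F W) h
      simp [Pi.single_ne_zero_iff, finrank_span_singleton, Module.finrank_pi] at this
  obtain ⟨r, hr, s, hs, hr1, hs1, hrs, -⟩ := exists_pair hR hx₀ hns₀
  -- a member commuting with the pair
  obtain ⟨x₁, hx₁, hns₁, hxr, hxs⟩ : ∃ x ∈ R, (∀ c : F, ((x : GL (Fin 4) F) : M4) ≠ c • 1) ∧
      (x : M4) * r = r * x ∧ (x : M4) * s = s * x := by
    by_contra h
    push Not at h
    -- every member is a combination of the four products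
    have comb : ∀ x ∈ R, ∃ a b c d : F, ((x : GL (Fin 4) F) : M4) =
        a • 1 + b • (r : M4) + c • (s : M4) + d • ((r : M4) * s) := by
      intro x hx
      have fin : ∀ y ∈ R, (y : M4) * r = r * y → (y : M4) * s = s * y → ∃ c : F, (y : M4) = c • 1 :=
        fun y hy h1 h3 => by
          by_contra hne; push Not at hne; exact h y hy hne h1 h3
      rcases hR.comm x hx r hr with a | a <;> rcases hR.comm x hx s hs with b | b
      · obtain ⟨c, hc⟩ := fin x hx a b
        exact ⟨c, 0, 0, 0, by rw [hc]; module⟩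
      · obtain ⟨c, hc⟩ := fin (x * r) (mul_mem hx hr) (by rw [Units.val_mul, ← mul_assoc, ← a])
          (by rw [Units.val_mul, mul_assoc, hrs, mul_neg, ← mul_assoc, b, neg_mul, neg_neg, mul_assoc])
        refine ⟨0, c, 0, 0, ?_⟩
        rw [show (x : M4) = (x : M4) * r * r by rw [mul_assoc, hr1, mul_one], ← Units.val_mul, hc, Matrix.smul_mul,
          one_mul]
        module
      · obtain ⟨c, hc⟩ := fin (x * s) (mul_mem hx hs)
          (by rw [Units.val_mul, mul_assoc, show (s : M4) * r = -((r : M4) * s) by rw [hrs, neg_neg], mul_neg,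
            ← mul_assoc, a, neg_mul, neg_neg, mul_assoc])
          (by rw [Units.val_mul, ← mul_assoc, ← b])
        refine ⟨0, 0, c, 0, ?_⟩
        rw [show (x : M4) = (x : M4) * s * s by rw [mul_assoc, hs1, mul_one], ← Units.val_mul, hc, Matrix.smul_mul,
          one_mul]
        module
      · obtain ⟨c, hc⟩ := fin (x * r * s) (mul_mem (mul_mem hx hr) hs)
          (by
            rw [Units.val_mul, Units.val_mul]
            calc (x : M4) * r * s * r = x * r * (s * r) := by simp only [mul_assoc]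
              _ = -(x * r * r * s) := by
                rw [show (s : M4) * r = -((r : M4) * s) by rw [hrs, neg_neg]]; simp only [mul_neg, mul_assoc]
              _ = -((x : M4) * r) * r * s := by simp only [neg_mul]
              _ = (r : M4) * x * r * s := by rw [a, neg_neg]
              _ = (r : M4) * (x * r * s) := by simp only [mul_assoc])
          (by
            rw [Units.val_mul, Units.val_mul]
            calc (x : M4) * r * s * s = x * (r * s) * s := by simp only [mul_assoc]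
              _ = -(x * s * (r * s)) := by rw [hrs]; simp only [mul_neg, neg_mul, mul_assoc, hrs]
              _ = -((x : M4) * s) * (r * s) := by simp only [neg_mul]
              _ = (s : M4) * x * (r * s) := by rw [b, neg_neg]
              _ = (s : M4) * (x * r * s) := by simp only [mul_assoc])
        refine ⟨0, 0, 0, -c, ?_⟩
        rw [show (x : M4) = (x : M4) * r * s * (s * r) by
          rw [mul_assoc, ← mul_assoc (s : M4), hs1, one_mul, mul_assoc, hr1, mul_one],
          ← Units.val_mul, ← Units.val_mul (x * r), hc, Matrix.smul_mul, one_mul,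
          show (s : M4) * r = -((r : M4) * s) by rw [hrs, neg_neg]]
        module
    obtain ⟨v, hv, hv0⟩ : ∃ v : Fin 4 → F, (r : M4) *ᵥ v = v ∧ v ≠ 0 := by
      by_contra hno
      push Not at hno
      have all : ∀ w, (r : M4) *ᵥ w = -w := fun w => by
        have := hno (w + (r : M4) *ᵥ w) (by rw [Matrix.mulVec_add, Matrix.mulVec_mulVec, hr1, Matrix.one_mulVec]; abel)
        exact (neg_eq_of_add_eq_zero_right this).symm
      exact anti_ne hrs (c := -1) (Matrix.toLin'.injective (LinearMap.ext fun w => by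
        simp [all w, Matrix.neg_mulVec]))
    have hsv : (r : M4) *ᵥ ((s : M4) *ᵥ v) = -((s : M4) *ᵥ v) := by
      rw [Matrix.mulVec_mulVec, hrs, Matrix.neg_mulVec, ← Matrix.mulVec_mulVec, hv]
    rcases hR.irr (Submodule.span F {v, (s : M4) *ᵥ v}) (by
      rintro _ ⟨x, hx, rfl⟩
      rw [Submodule.map_span, Submodule.span_le]
      obtain ⟨a, b, c, d, hx'⟩ := comb x hx
      rintro _ ⟨w, hw, rfl⟩
      show Matrix.toLin' (x : M4) w ∈ Submodule.span F {v, (s : M4) *ᵥ v}
      rw [Matrix.toLin'_apply, hx']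
      simp only [Matrix.add_mulVec, Matrix.smul_mulVec, Matrix.one_mulVec, ← Matrix.mulVec_mulVec]
      rw [Submodule.mem_span_pair]
      rcases hw with rfl | rfl
      · exact ⟨a + b, c - d, by rw [hv, hsv]; module⟩
      · refine ⟨c + d, a - b, ?_⟩
        rw [hsv, show (s : M4) *ᵥ ((s : M4) *ᵥ v) = v by rw [Matrix.mulVec_mulVec, hs1, Matrix.one_mulVec], hv]
        module) with hb | ht
    · exact hv0 ((Submodule.eq_bot_iff _).1 hb v (Submodule.subset_span (Set.mem_insert _ _)))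
    · have h1 := finrank_span_le_card (R := F) ({v, (s : M4) *ᵥ v} : Set (Fin 4 → F))
      have h3 : Module.finrank F (Submodule.span F ({v, (s : M4) *ᵥ v} : Set (Fin 4 → F))) = 4 := by
        rw [ht, finrank_top, Module.finrank_pi, Fintype.card_fin]
      have h4 : ({v, (s : M4) *ᵥ v} : Set (Fin 4 → F)).toFinset.card ≤ 2 := by
        rw [Set.toFinset_insert, Set.toFinset_singleton]; exact Finset.card_le_two
      omega
  obtain ⟨t, ht, u₀, hu₀, ht1, hu01, htu₀, ct, hct⟩ := exists_pair hR hx₁ hns₁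
  have htr : (t : M4) * r = r * t := by rw [hct, Matrix.smul_mul, Matrix.mul_smul, hxr]
  have hts : (t : M4) * s = s * t := by rw [hct, Matrix.smul_mul, Matrix.mul_smul, hxs]
  have hsr : (s : M4) * r = -((r : M4) * s) := by rw [hrs, neg_neg]
  obtain ⟨u₁, hu₁, hu1t, hu1r⟩ : ∃ u ∈ R, (t : M4) * u = -((u : M4) * t) ∧
      ((u : GL (Fin 4) F) : M4) * r = r * u := by
    rcases hR.comm u₀ hu₀ r hr with h | h
    · exact ⟨u₀, hu₀, htu₀, h⟩
    · refine ⟨u₀ * s, mul_mem hu₀ hs, ?_, ?_⟩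
      · rw [Units.val_mul, ← mul_assoc, htu₀, neg_mul, mul_assoc, hts, mul_assoc]
      · rw [Units.val_mul, mul_assoc, hsr, mul_neg, ← mul_assoc, h, neg_mul, neg_neg, mul_assoc]
  obtain ⟨u₂, hu₂, hu2t, hu2r, hu2s⟩ : ∃ u ∈ R, (t : M4) * u = -((u : M4) * t) ∧
      ((u : GL (Fin 4) F) : M4) * r = r * u ∧ ((u : GL (Fin 4) F) : M4) * s = s * u := by
    rcases hR.comm u₁ hu₁ s hs with h | h
    · exact ⟨u₁, hu₁, hu1t, hu1r, h⟩
    · refine ⟨u₁ * r, mul_mem hu₁ hr, ?_, ?_, ?_⟩
      · rw [Units.val_mul, ← mul_assoc, hu1t, neg_mul, mul_assoc, htr, mul_assoc]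
      · rw [Units.val_mul, ← mul_assoc (r : M4), ← hu1r]
      · rw [Units.val_mul, mul_assoc, hrs, mul_neg, ← mul_assoc, h, neg_mul, neg_neg, mul_assoc]
  obtain ⟨u, hu, hu1, hut, hur, hus⟩ : ∃ u ∈ R, ((u : GL (Fin 4) F) : M4) * u = 1 ∧
      (t : M4) * u = -((u : M4) * t) ∧ (u : M4) * r = r * u ∧ (u : M4) * s = s * u := by
    rcases hR.sq u₂ hu₂ with h | h
    · exact ⟨u₂, hu₂, h, hu2t, hu2r, hu2s⟩
    · refine ⟨k * u₂, mul_mem hk hu₂, ?_, ?_, ?_, ?_⟩ <;>
        simp only [Units.val_mul, hkj, Matrix.smul_mul, Matrix.mul_smul, one_mul, smul_smul, hR.jj, h, hu2t, hu2r,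
          hu2s, smul_neg, neg_one_smul, neg_neg]
  -- the basis
  obtain ⟨v, hvr, hvt, hv0⟩ : ∃ v : Fin 4 → F, (r : M4) *ᵥ v = v ∧ (t : M4) *ᵥ v = v ∧ v ≠ 0 := by
    by_contra hno
    push Not at hno
    have all : ∀ w, w + (r : M4) *ᵥ w + (t : M4) *ᵥ w + (r : M4) *ᵥ ((t : M4) *ᵥ w) = 0 := fun w =>
      hno _ (by
        simp only [Matrix.mulVec_add, Matrix.mulVec_mulVec, hr1, Matrix.one_mulVec, ← mul_assoc, one_mul]
        abel) (by
        simp only [Matrix.mulVec_add, Matrix.mulVec_mulVec, ht1, Matrix.one_mulVec, ← mul_assoc, htr]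
        rw [mul_assoc (r : M4) t t, ht1, mul_one]
        abel)
    have neg : ∀ w, (t : M4) *ᵥ w = -w := fun w => by
      have h1 := all w
      have h3 := all ((s : M4) *ᵥ w)
      rw [Matrix.mulVec_mulVec _ (t : M4), hts, ← Matrix.mulVec_mulVec] at h3
      rw [Matrix.mulVec_mulVec w (r : M4) (s : M4), hrs, Matrix.neg_mulVec, ← Matrix.mulVec_mulVec,
        Matrix.mulVec_mulVec ((t : M4) *ᵥ w) (r : M4) (s : M4), hrs, Matrix.neg_mulVec, ← Matrix.mulVec_mulVec] at h3
      have h4 : (s : M4) *ᵥ (w - (r : M4) *ᵥ w + (t : M4) *ᵥ w - (r : M4) *ᵥ ((t : M4) *ᵥ w)) = 0 := by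
        rw [Matrix.mulVec_sub, Matrix.mulVec_add, Matrix.mulVec_sub]
        linear_combination (norm := abel) h3
      have h5 := congrArg ((s : M4) *ᵥ ·) h4
      simp only [Matrix.mulVec_mulVec, hs1, Matrix.one_mulVec, Matrix.mulVec_zero] at h5
      funext i
      have e1 := congrFun h1 i
      have e2 := congrFun h5 i
      simp at e1 e2 ⊢
      exact mul_left_cancel₀ h2 (by linear_combination e1 + e2)
    exact anti_ne hut (c := -1) (Matrix.toLin'.injective (LinearMap.ext fun w => by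
      simp [neg w, Matrix.neg_mulVec]))
  set w₁ := (s : M4) *ᵥ v with hw₁
  set w₂ := (u : M4) *ᵥ v with hw₂
  set w₃ := (s : M4) *ᵥ w₂ with hw₃
  have r1 : (r : M4) *ᵥ w₁ = -w₁ := by
    rw [hw₁, Matrix.mulVec_mulVec, hrs, Matrix.neg_mulVec, ← Matrix.mulVec_mulVec, hvr]
  have r2 : (r : M4) *ᵥ w₂ = w₂ := by rw [hw₂, Matrix.mulVec_mulVec, ← hur, ← Matrix.mulVec_mulVec, hvr]
  have r3 : (r : M4) *ᵥ w₃ = -w₃ := by
    rw [hw₃, Matrix.mulVec_mulVec, hrs, Matrix.neg_mulVec, ← Matrix.mulVec_mulVec, r2]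
  have t1 : (t : M4) *ᵥ w₁ = w₁ := by rw [hw₁, Matrix.mulVec_mulVec, hts, ← Matrix.mulVec_mulVec, hvt]
  have t2 : (t : M4) *ᵥ w₂ = -w₂ := by
    rw [hw₂, Matrix.mulVec_mulVec, hut, Matrix.neg_mulVec, ← Matrix.mulVec_mulVec, hvt]
  have t3 : (t : M4) *ᵥ w₃ = -w₃ := by
    rw [hw₃, Matrix.mulVec_mulVec, hts, ← Matrix.mulVec_mulVec, t2, Matrix.mulVec_neg]
  have s1 : (s : M4) *ᵥ w₁ = v := by rw [hw₁, Matrix.mulVec_mulVec, hs1, Matrix.one_mulVec]
  have s3 : (s : M4) *ᵥ w₃ = w₂ := by rw [hw₃, Matrix.mulVec_mulVec, hs1, Matrix.one_mulVec]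
  have u2 : (u : M4) *ᵥ w₂ = v := by rw [hw₂, Matrix.mulVec_mulVec, hu1, Matrix.one_mulVec]
  have u1 : (u : M4) *ᵥ w₁ = w₃ := by
    rw [hw₁, Matrix.mulVec_mulVec, hus, ← Matrix.mulVec_mulVec, hw₃, hw₂]
  have u3 : (u : M4) *ᵥ w₃ = w₁ := by rw [hw₃, Matrix.mulVec_mulVec, hus, ← Matrix.mulVec_mulVec, u2]
  set P0 : M4 := (Matrix.of ![v, w₁, w₂, w₃])ᵀ with hP0
  have hcol : ∀ c : Fin 4 → F, P0 *ᵥ c = c 0 • v + c 1 • w₁ + c 2 • w₂ + c 3 • w₃ := fun c => by
    funext i; simp [hP0, Matrix.mulVec, dotProduct, Fin.sum_univ_four]; ring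
  have hP : IsUnit P0 := Matrix.mulVec_injective_iff_isUnit.1 fun c c' hcc => by
    have h0 : P0 *ᵥ (c - c') = 0 := by rw [Matrix.mulVec_sub]; exact sub_eq_zero.2 hcc
    rw [hcol] at h0
    have a1 := congrArg ((r : M4) *ᵥ ·) h0
    have a2 := congrArg ((t : M4) *ᵥ ·) h0
    simp only [Matrix.mulVec_add, Matrix.mulVec_smul, hvr, hvt, r1, r2, r3, t1, t2, t3, Matrix.mulVec_zero,
      smul_neg] at a1 a2
    have a3 := congrArg ((r : M4) *ᵥ ·) a2
    simp only [Matrix.mulVec_add, Matrix.mulVec_smul, Matrix.mulVec_neg, hvr, r1, r2, r3, Matrix.mulVec_zero,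
      smul_neg, neg_neg] at a3
    have h4 : (4 : F) ≠ 0 := by rw [show (4 : F) = 2 * 2 by norm_num]; exact mul_ne_zero h2 h2
    have kill : ∀ {a : F} {x : Fin 4 → F}, x ≠ 0 → (4 : F) • (a • x) = 0 → a = 0 := fun {a x} hx h =>
      (smul_eq_zero.1 ((smul_eq_zero.1 h).resolve_left h4)).resolve_right hx
    have hw10 : w₁ ≠ 0 := fun h => hv0 (by rw [← s1, h, Matrix.mulVec_zero])
    have hw20 : w₂ ≠ 0 := fun h => hv0 (by rw [← u2, h, Matrix.mulVec_zero])
    have hw30 : w₃ ≠ 0 := fun h => hw20 (by rw [← s3, h, Matrix.mulVec_zero])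
    have e0 := kill (a := (c - c') 0) hv0 (by linear_combination (norm := module) h0 + a1 + a2 + a3)
    have e1 := kill (a := (c - c') 1) hw10 (by linear_combination (norm := module) h0 - a1 + a2 - a3)
    have e2 := kill (a := (c - c') 2) hw20 (by linear_combination (norm := module) h0 + a1 - a2 - a3)
    have e3 := kill (a := (c - c') 3) hw30 (by linear_combination (norm := module) h0 - a1 - a2 + a3)
    refine sub_eq_zero.1 (funext fun i => ?_)
    fin_cases i <;> assumption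
  set P : GL (Fin 4) F := hP.unit with hPdef
  refine ⟨P, ?_⟩
  -- the generators
  set gs : Fin 5 → GL (Fin 4) F := ![k, r, t, s, u]
  have hgs : ∀ i, gs i ∈ R := fun i => by fin_cases i <;> assumption
  have hgen : ∀ i, P * Matrix.SpecialLinearGroup.toGL (gen hR.jj i) * P⁻¹ = gs i := by
    intro i
    rw [mul_inv_eq_iff_eq_mul]
    refine Units.ext (Matrix.toLin'.injective (LinearMap.ext fun c => ?_))
    show ((P0 * genMat j i)) *ᵥ c = ((gs i : M4) * P0) *ᵥ c
    rw [← Matrix.mulVec_mulVec, ← Matrix.mulVec_mulVec, hcol, hcol]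
    simp only [Matrix.mulVec_add, Matrix.mulVec_smul]
    fin_cases i
    · simp [gs, genMat, hkj, Matrix.smul_mulVec]; module
    · simp [gs, genMat, Matrix.mulVec_diagonal, hvr, r1, r2, r3]
    · simp [gs, genMat, Matrix.mulVec_diagonal, hvt, t1, t2, t3]
    · simp [gs, genMat, Matrix.mulVec, dotProduct, Fin.sum_univ_four, ← hw₁, s1, ← hw₃, s3]; abel
    · simp [gs, genMat, Matrix.mulVec, dotProduct, Fin.sum_univ_four, ← hw₂, u1, u2, u3]; abel
  set C := ((stdGroup hR.jj).map Matrix.SpecialLinearGroup.toGL).map (MulAut.conj P).toMonoidHom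
  have hgC : ∀ i, gs i ∈ C := fun i => ⟨_, ⟨_, Subgroup.subset_closure ⟨i, rfl⟩, rfl⟩, hgen i⟩
  refine le_antisymm (fun x hx => ?_) ?_
  swap
  · rw [Subgroup.map_le_iff_le_comap, Subgroup.map_le_iff_le_comap]
    refine (Subgroup.closure_le _).2 ?_
    rintro _ ⟨i, rfl⟩
    show P * Matrix.SpecialLinearGroup.toGL (gen hR.jj i) * P⁻¹ ∈ R
    rw [hgen]; exact hgs i
  -- fix the signs against the four involutions
  have adjust : ∀ (g a : GL (Fin 4) F), a ∈ R → a ∈ C → g ∈ R →
      ∀ y ∈ R, ∃ y' ∈ R, (y' ∈ C → y ∈ C) ∧ ((a : M4) * g = -((g : M4) * a) → (y' : M4) * g = g * y') ∧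
        (∀ h : GL (Fin 4) F, (a : M4) * h = h * a → (y : M4) * h = h * y → (y' : M4) * h = h * y') := by
    intro g a ha haC hg y hy
    rcases hR.comm y hy g hg with h | h
    · exact ⟨y, hy, id, fun _ => h, fun _ _ h' => h'⟩
    · refine ⟨y * a, mul_mem hy ha, fun h' => ?_, fun hag => ?_, fun o hao hyo => ?_⟩
      · simpa using mul_mem h' (inv_mem haC)
      · rw [Units.val_mul, mul_assoc, hag, mul_neg, ← mul_assoc, h, neg_mul, neg_neg, mul_assoc]
      · rw [Units.val_mul, mul_assoc, hao, ← mul_assoc, hyo, mul_assoc]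
  obtain ⟨y1, hy1, c1, f1, -⟩ := adjust r s hs (hgC 3) hr x hx
  have g1 := f1 hsr
  obtain ⟨y2, hy2, c2, f2, p2⟩ := adjust s r hr (hgC 1) hs y1 hy1
  have g21 := p2 r rfl g1
  have g22 := f2 hrs
  obtain ⟨y3, hy3, c3, f3, p3⟩ := adjust t u hu (hgC 4) ht y2 hy2
  have hut' : (u : M4) * t = -((t : M4) * u) := by rw [hut, neg_neg]
  have g31 := p3 r hur g21
  have g32 := p3 s hus g22
  have g33 := f3 hut'
  obtain ⟨y4, hy4, c4, f4, p4⟩ := adjust u t ht (hgC 2) hu y3 hy3
  have g41 := p4 r htr g31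
  have g42 := p4 s hts g32
  have g43 := p4 t rfl g33
  have g44 := f4 hut
  refine c1 (c2 (c3 (c4 ?_)))
  obtain ⟨Y, hY⟩ : ∃ Y : GL (Fin 4) F, Y = P⁻¹ * y4 * P := ⟨_, rfl⟩
  have hYs : (Y : M4) = (Y : M4) 0 0 • 1 := by
    refine scalar_of_commute (j := j) h2 fun i hi => ?_
    have hyi : y4 * gs i = gs i * y4 := Units.ext (by
      rw [Units.val_mul, Units.val_mul]; fin_cases i <;> first | exact absurd rfl hi | assumption)
    have : Y * Matrix.SpecialLinearGroup.toGL (gen hR.jj i) = Matrix.SpecialLinearGroup.toGL (gen hR.jj i) * Y := by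
      have hG : Matrix.SpecialLinearGroup.toGL (gen hR.jj i) = P⁻¹ * gs i * P := by rw [← hgen i]; group
      rw [hG, hY, show P⁻¹ * y4 * P * (P⁻¹ * gs i * P) = P⁻¹ * (y4 * gs i) * P by group, hyi]
      group
    exact congrArg (fun g : GL (Fin 4) F => (g : M4)) this
  set γ := (Y : M4) 0 0
  have hy4v : (y4 : M4) = γ • 1 := by
    rw [show y4 = P * Y * P⁻¹ by rw [hY]; group, Units.val_mul, Units.val_mul, hYs, Matrix.mul_smul, mul_one,
      Matrix.smul_mul, ← Units.val_mul, mul_inv_cancel, Units.val_one]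
  have hγ := hR.scal y4 hy4 γ hy4v
  have hpow : ∀ m : ℕ, k ^ m ∈ C := fun m => pow_mem (hgC 0) m
  have hkpow : ∀ m : ℕ, ((k ^ m : GL (Fin 4) F) : M4) = j ^ m • 1 := fun m => by
    rw [Units.val_pow_eq_pow_val, hkj, smul_pow, one_pow]
  obtain ⟨m, hm⟩ : ∃ m : ℕ, γ = j ^ m := by
    rcases mul_self_eq_one_iff.1 (show γ * γ * (γ * γ) = 1 by linear_combination hγ) with h | h
    · rcases mul_self_eq_one_iff.1 h with h' | h'
      · exact ⟨0, by rw [h', pow_zero]⟩
      · exact ⟨2, by rw [h', pow_two, hR.jj]⟩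
    · rcases mul_self_eq_mul_self_iff.1 (show γ * γ = j * j by rw [h, hR.jj]) with h' | h'
      · exact ⟨1, by rw [h', pow_one]⟩
      · exact ⟨3, by rw [h', pow_succ, pow_two, hR.jj, neg_one_mul]⟩
  rw [show y4 = k ^ m from Units.ext (by rw [hy4v, hkpow, hm])]
  exact hpow m

/-- The normaliser of the group is maximal. -/
theorem symType_maximal [Finite F] (hp : (Nat.card F).Prime) :
    Cfsg.Geo.IsMaximalIn (Cfsg.Geo.specialLinear (Fin 4) F)
      (Cfsg.Geo.subgroupNormalizer R ⊓ Cfsg.Geo.specialLinear (Fin 4) F) := by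
  obtain ⟨P, hP⟩ := exists_conj hR
  set E := MulAut.conj P with hE
  set S := Cfsg.Geo.specialLinear (Fin 4) F with hS
  set R₀ := (stdGroup hR.jj).map Matrix.SpecialLinearGroup.toGL
  have hSE : ∀ g, E g ∈ S ↔ g ∈ S := fun g => by
    have hn : S.Normal := MonoidHom.normal_ker _
    exact ⟨fun h => by simpa [hE, mul_assoc] using hn.conj_mem _ h P⁻¹, fun h => hn.conj_mem _ h P⟩
  have hNE : ∀ g, E g ∈ Cfsg.Geo.subgroupNormalizer R ↔ g ∈ Cfsg.Geo.subgroupNormalizer R₀ := fun g => by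
    have key : ∀ y, E y ∈ R ↔ y ∈ R₀ := fun y => by
      rw [hP]
      exact ⟨fun ⟨z, hz, he⟩ => E.injective he ▸ hz, fun h => ⟨y, h, rfl⟩⟩
    simp only [Cfsg.Geo.subgroupNormalizer, Subgroup.mem_normalizer_iff, SetLike.mem_coe]
    constructor
    · intro h y; rw [← key, ← key, map_mul, map_mul, map_inv]; exact h (E y)
    · intro h y; obtain ⟨y', rfl⟩ := E.surjective y
      rw [← map_inv E g, ← map_mul, ← map_mul, key, key]; exact h y'
  have hmax := std_maximal hR.jj hR.two hp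
  refine ⟨lt_of_le_of_ne inf_le_right fun heq => ?_, fun M hHM hMS => ?_⟩
  · exact hmax.1.not_ge fun g hg => ⟨(hNE g).1 (inf_eq_right.1 heq ((hSE g).2 hg)), hg⟩
  · rcases hmax.2 (M.comap E.toMonoidHom) (fun g hg => hHM ⟨(hNE g).2 hg.1, (hSE g).2 hg.2⟩)
      (fun g hg => (hSE g).1 (hMS hg)) with h | h
    · left
      refine le_antisymm (fun g hg => ⟨?_, hMS hg⟩) hHM
      obtain ⟨g', rfl⟩ := E.surjective g
      exact (hNE g').2 (h.le (show g' ∈ M.comap E.toMonoidHom from hg)).1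
    · right
      refine le_antisymm hMS fun g hg => ?_
      obtain ⟨g', rfl⟩ := E.surjective g
      exact h.ge ((hSE g').1 hg)

end Cfsg.Agent.MaxCl.SLFour
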